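import Cfsg.Agent.Lib.RuRankThree90.Sylow5

/-!
# A subgroup of order 15600 with the listed Sylow subgroups

In all cases but one it would be transitive on the orthogonal lines; in the last it fixes a line.
-/

set_option autoImplicit false
set_option maxRecDepth 100000
set_option maxHeartbeats 4000000

namespace Cfsg.Agent.Lib.RuRankThree90

open Cfsg.Spor Cfsg.Agent.Lib.RuAut
open Cfsg.Agent.Lib.Compute (getP forceNat forceNat_eq)

attribute [local instance] lineAction

/-- The element of order thirteen. -/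
noncomputable def pEl : pointStab := wEl LineData.wP

/-- The element normalising it. -/
noncomputable def cEl : pointStab := wEl LineData.wC

theorem pc_checks : sameW (LineData.wC ++ LineData.wP) (repW LineData.wP LineData.expC ++ LineData.wC) = true ∧
    sameW (repW LineData.wP 13) [] = true ∧ Nat.beq (lineW LineData.wP (getP 12 LineData.cycPts 0))
      (getP 12 LineData.cycPts 0) = false := by
  refine ⟨?_, ?_, ?_⟩ <;> decide +kernel

/-- The lines by cycles. -/
noncomputable def cycOk : Bool :=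
  forceNat LineData.cycPts fun P => forceNat LineData.cycPos fun R =>
    (List.range 1755).all (fun j => forceNat (getP 12 P j) fun x =>
      Nat.blt x 4060 && (bif Nat.blt (j % 13) 12 then Nat.beq (lineW LineData.wP x) (getP 12 P (j + 1)) else true)) &&
    (List.range 1755).all fun k => forceNat (aNode k / 4) fun l => forceNat (getP 12 R l) fun j =>
      Nat.blt j 1755 && Nat.beq (getP 12 P j) l

theorem cyc_checks : cycOk = true := by decide +kernel

/-- A point of a cycle. -/
noncomputable def cycPt (j : ℕ) : ℕ := getP 12 LineData.cycPts j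

/-- The position of a line among the cycles. -/
noncomputable def cycOf (x : ℕ) : ℕ := getP 12 LineData.cycPos x

theorem cyc_facts : (∀ j < 1755, cycPt j < 4060 ∧ (j % 13 < 12 → lineW LineData.wP (cycPt j) = cycPt (j + 1))) ∧
    ∀ k : Fin 1755, cycOf (aLine k : ℕ) < 1755 ∧ cycPt (cycOf (aLine k : ℕ)) = (aLine k : ℕ) := by
  have h := cyc_checks
  simp only [cycOk, forceNat_eq, Bool.and_eq_true, List.all_eq_true, List.mem_range, Nat.blt_eq,
    Nat.beq_eq] at h
  refine ⟨fun j hj => ⟨(h.1 j hj).1, fun hm => ?_⟩, fun k => h.2 k k.isLt⟩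
  have := (h.1 j hj).2
  rw [show Nat.blt (j % 13) 12 = true by simpa [Nat.blt_eq] using hm, cond_true, Nat.beq_eq] at this
  exact this

/-- The word of the case. -/
noncomputable def caseW (i : ℕ) : List ℕ := LineData.cases.getD i []

/-- Joining the cycles along the edges. -/
noncomputable def joinOk (w : List ℕ) (E : ℕ) : ℕ → ℕ → Bool
  | 0, vis => Nat.beq vis 43556142965880123323311949751266331066367
  | t + 1, vis =>
    forceNat vis fun vis => forceNat (getP 14 E (133 - t)) fun d =>
      forceNat (d / 4) fun y =>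
        forceNat (lineW w y) fun a =>
          forceNat (lineW w (bif Nat.beq (d / 2 % 2) 0 then lineW LineData.wQ1 y else lineW LineData.wQ2 y)) fun b =>
            forceNat (cycOf a) fun ja => forceNat (cycOf b) fun jb =>
              Nat.blt y 4060 && Nat.blt ja 1755 && Nat.blt jb 1755 && Nat.beq (cycPt ja) a &&
              Nat.beq (cycPt jb) b && hasBit vis (bif Nat.beq (d % 2) 0 then ja / 13 else jb / 13) &&
              joinOk w E t (Nat.lor vis (Nat.shiftLeft 1 (bif Nat.beq (d % 2) 0 then jb / 13 else ja / 13)))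

/-- The joining for a range of cases. -/
noncomputable def transOk (a n : ℕ) : Bool :=
  (List.range' a n).all fun i => validW (caseW (i + 1)) &&
    forceNat (LineData.caseEdges.getD i 0) fun E => joinOk (caseW (i + 1)) E 134 1

theorem trans_0 : transOk 0 34 = true := by decide +kernel
theorem trans_1 : transOk 34 34 = true := by decide +kernel
theorem trans_2 : transOk 68 33 = true := by decide +kernel
theorem wQ_valid : validW LineData.wQ1 = true ∧ validW LineData.wQ2 = true := by decide +kernel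
theorem full_mask : (43556142965880123323311949751266331066367 : ℕ) = 2 ^ 135 - 1 := by norm_num

theorem orbit_step {X : Subgroup pointStab} {g : pointStab} (hg : g ∈ X) {r x : Fin 4060}
    (h : x ∈ MulAction.orbit X r) : g • x ∈ MulAction.orbit X r := by
  obtain ⟨⟨f, hf⟩, rfl⟩ := h
  exact ⟨⟨g * f, mul_mem hg hf⟩, mul_smul g f r⟩

theorem cyc_in_orbit {X : Subgroup pointStab} (hp : pEl ∈ X) {r : Fin 4060} {c : ℕ} (hc : c < 135)
    (x : Fin 4060) (j : ℕ) (hj : j < 1755) (hjc : j / 13 = c) (hx : (x : ℕ) = cycPt j)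
    (y : Fin 4060) (i : ℕ) (hi : i < 1755) (hic : i / 13 = c) (hy : (y : ℕ) = cycPt i)
    (h : x ∈ MulAction.orbit X r) : y ∈ MulAction.orbit X r := by
  have hv : validW LineData.wP = true := word_PC.1
  have key : ∀ (e : ℕ) (b : Fin 4060) (k : ℕ), k + e < 1755 → (k + e) / 13 = k / 13 → (b : ℕ) = cycPt k →
      ((pEl ^ e • b : Fin 4060) : ℕ) = cycPt (k + e) := by
    intro e
    induction e with
    | zero => intro b k _ _ hb; simpa using hb
    | succ e ih =>
      intro b k hk hdiv hb
      have e1 := ih b k (by omega) (by omega) hb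
      rw [pow_succ', mul_smul, pEl, wEl_spec _ hv]
      rw [pEl] at e1
      rw [e1, (cyc_facts.1 (k + e) (by omega)).2 (by omega)]
      rfl
  obtain ⟨bpt, hb⟩ : ∃ b : Fin 4060, (b : ℕ) = cycPt (13 * c) :=
    ⟨⟨_, (cyc_facts.1 (13 * c) (by omega)).1⟩, rfl⟩
  have hxb : pEl ^ (j - 13 * c) • bpt = x :=
    Fin.ext (by rw [key _ _ _ (by omega) (by omega) hb, hx, Nat.add_sub_cancel' (by omega)])
  have hyb : pEl ^ (i - 13 * c) • bpt = y :=
    Fin.ext (by rw [key _ _ _ (by omega) (by omega) hb, hy, Nat.add_sub_cancel' (by omega)])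
  have : bpt ∈ MulAction.orbit X r := by
    rw [← inv_smul_smul (pEl ^ (j - 13 * c)) bpt, hxb]
    exact orbit_step (inv_mem (pow_mem hp _)) h
  rw [← hyb]
  exact orbit_step (pow_mem hp _) this

theorem join_sound {X : Subgroup pointStab} (hp : pEl ∈ X) {w : List ℕ} (hw : validW w = true)
    (h1 : wEl w * qOne * (wEl w)⁻¹ ∈ X) (h2 : wEl w * qTwo * (wEl w)⁻¹ ∈ X) (E : ℕ) (r : Fin 4060) :
    ∀ t vis, joinOk w E t vis = true →
      (∀ c < 135, vis.testBit c = true → ∃ (x : Fin 4060) (j : ℕ),
        j < 1755 ∧ j / 13 = c ∧ (x : ℕ) = cycPt j ∧ x ∈ MulAction.orbit X r) →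
      ∀ c < 135, ∃ (x : Fin 4060) (j : ℕ), j < 1755 ∧ j / 13 = c ∧ (x : ℕ) = cycPt j ∧ x ∈ MulAction.orbit X r
  | 0, vis, h, hinv => fun c hc => hinv c hc (by
      rw [joinOk, Nat.beq_eq] at h
      rw [h, full_mask, Nat.testBit_two_pow_sub_one]
      simpa using hc)
  | t + 1, vis, h, hinv => by
    simp only [joinOk, forceNat_eq, Bool.and_eq_true, Nat.blt_eq, Nat.beq_eq, hasBit_eq] at h
    obtain ⟨⟨⟨⟨⟨⟨hy, hja⟩, hjb⟩, ha⟩, hb⟩, hbit⟩, hrec⟩ := h
    refine join_sound hp hw h1 h2 E r t _ hrec fun c hc hcb => ?_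
    rw [show ∀ u v, Nat.lor u v = u ||| v from fun _ _ => rfl, Nat.testBit_or, Bool.or_eq_true] at hcb
    rcases hcb with hcb | hcb
    · exact hinv c hc hcb
    rw [show ∀ u, Nat.shiftLeft 1 u = 1 <<< u from fun _ => rfl, Nat.one_shiftLeft, Nat.testBit_two_pow,
      decide_eq_true_eq] at hcb
    generalize getP 14 E (133 - t) = d at hy hja hjb ha hb hbit hcb
    set y : Fin 4060 := ⟨d / 4, hy⟩
    obtain ⟨wq, hwq, hq⟩ : ∃ wq, validW wq = true ∧ wEl w * wEl wq * (wEl w)⁻¹ ∈ X ∧
        (bif Nat.beq (d / 2 % 2) 0 then lineW LineData.wQ1 (d / 4) else lineW LineData.wQ2 (d / 4)) =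
          lineW wq (d / 4) := by
      cases Nat.beq (d / 2 % 2) 0
      · exact ⟨_, wQ_valid.2, h2, rfl⟩
      · exact ⟨_, wQ_valid.1, h1, rfl⟩
    have hA : ((wEl w • y : Fin 4060) : ℕ) = cycPt (cycOf (lineW w (d / 4))) := by rw [wEl_spec w hw, ha]
    have hB : (((wEl w * wEl wq * (wEl w)⁻¹) • wEl w • y : Fin 4060) : ℕ) =
        cycPt (cycOf (lineW w (bif Nat.beq (d / 2 % 2) 0 then lineW LineData.wQ1 (d / 4)
          else lineW LineData.wQ2 (d / 4)))) := by
      rw [mul_smul, mul_smul, inv_smul_smul, wEl_spec w hw, wEl_spec wq hwq, hb, hq.2]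
    generalize (bif Nat.beq (d / 2 % 2) 0 then lineW LineData.wQ1 (d / 4) else lineW LineData.wQ2 (d / 4)) = qy
      at hjb hbit hcb hB
    generalize cycOf (lineW w (d / 4)) = ja at hja hbit hcb hA
    generalize cycOf (lineW w qy) = jb at hjb hbit hcb hB
    cases hd : Nat.beq (d % 2) 0 <;> rw [hd] at hbit hcb <;> simp only [cond_true, cond_false] at hbit hcb
    · obtain ⟨x, j, hj, hjc, hx, hxo⟩ := hinv _ (by omega) hbit
      refine ⟨wEl w • y, ja, hja, hcb, hA, ?_⟩
      have := orbit_step (inv_mem hq.1)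
        (cyc_in_orbit hp (show jb / 13 < 135 by omega) x j hj hjc hx _ jb hjb rfl hB hxo)
      rwa [inv_smul_smul] at this
    · obtain ⟨x, j, hj, hjc, hx, hxo⟩ := hinv _ (by omega) hbit
      exact ⟨_, jb, hjb, hcb, hB,
        orbit_step hq.1 (cyc_in_orbit hp (show ja / 13 < 135 by omega) x j hj hjc hx _ ja hja rfl hA hxo)⟩

/-- The cases 1..101 do not occur. -/
theorem case_absurd {X : Subgroup pointStab} (hX : Nat.card X = 15600) (hp : pEl ∈ X) {i : ℕ} (hi : i < 101)
    (h1 : wEl (caseW (i + 1)) * qOne * (wEl (caseW (i + 1)))⁻¹ ∈ X)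
    (h2 : wEl (caseW (i + 1)) * qTwo * (wEl (caseW (i + 1)))⁻¹ ∈ X) : False := by
  classical
  haveI := finite_pointStab'
  obtain ⟨hv, hj⟩ : validW (caseW (i + 1)) = true ∧
      joinOk (caseW (i + 1)) (LineData.caseEdges.getD i 0) 134 1 = true := by
    have h : ∃ a n, transOk a n = true ∧ a ≤ i ∧ i < a + n := by
      rcases Nat.lt_or_ge i 34 with k | k
      · exact ⟨_, _, trans_0, by omega, by omega⟩
      rcases Nat.lt_or_ge i 68 with k' | k'
      · exact ⟨_, _, trans_1, by omega, by omega⟩
      · exact ⟨_, _, trans_2, by omega, by omega⟩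
    obtain ⟨a, n, hc, k1, k2⟩ := h
    simp only [transOk, forceNat_eq, List.all_eq_true, Bool.and_eq_true] at hc
    exact hc i (List.mem_range'_1.mpr ⟨k1, k2⟩)
  set r : Fin 4060 := ⟨cycPt 0, (cyc_facts.1 0 (by norm_num)).1⟩
  have hall := join_sound hp hv h1 h2 _ r 134 1 hj fun c _ hc => by
    have hc0 : c = 0 := by
      rw [show (1 : ℕ) = 2 ^ 0 from rfl, Nat.testBit_two_pow, decide_eq_true_eq] at hc
      exact hc.symm
    exact ⟨r, 0, by norm_num, by omega, (by simp [r]), MulAction.mem_orbit_self _⟩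
  have hsub : Set.range aLine ⊆ MulAction.orbit X r := by
    rintro _ ⟨k, rfl⟩
    obtain ⟨h3, h4⟩ := cyc_facts.2 k
    obtain ⟨x, j, hj', hjc, hx, hxo⟩ := hall (cycOf (aLine k : ℕ) / 13) (by omega)
    exact cyc_in_orbit hp (by omega) x j hj' hjc hx _ _ h3 rfl h4.symm hxo
  have hsup : MulAction.orbit X r ⊆ Set.range aLine := by
    obtain ⟨⟨f, hf⟩, hfk⟩ := hsub ⟨root0, rfl⟩
    rintro _ ⟨⟨g, hg⟩, rfl⟩
    refine ⟨posPerm (g * f⁻¹) root0, ?_⟩
    rw [aLine_posPerm, ← hfk]
    show (g * f⁻¹) • f • r = g • r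
    rw [smul_smul, inv_mul_cancel_right]
  have hcard := (MulAction.stabilizer X r).card_mul_index
  rw [MulAction.index_stabilizer, hsup.antisymm hsub, Set.ncard_range_of_injective aLine_inj, Nat.card_fin,
    hX] at hcard
  omega

/-- The exceptional case. -/
noncomputable def excOk : Bool :=
  validW LineData.wU1 && validW LineData.wU2 &&
    sameW (LineData.wU1 ++ caseW 0) (caseW 0 ++ LineData.wQ1) &&
    sameW (LineData.wU2 ++ caseW 0) (caseW 0 ++ LineData.wQ2) &&
    Nat.beq (lineW LineData.wP 1) 1 && Nat.beq (lineW LineData.wU1 1) 1 && Nat.beq (lineW LineData.wU2 1) 1 &&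
    (List.range 4060).all fun l =>
      bif Nat.beq (lineW LineData.wP l) l then
        bif Nat.beq (lineW LineData.wU1 l) l then
          bif Nat.beq (lineW LineData.wU2 l) l then Nat.blt l 2 else true
        else true
      else true

theorem exc_checks : excOk = true := by decide +kernel

theorem exc_count : countOk [LineData.wP, LineData.wU1, LineData.wU2] 7800 LineData.excTree
    LineData.excTreeSrt = true := by decide +kernel

theorem case_zero {X : Subgroup pointStab} (hX : Nat.card X = 15600) (hp : pEl ∈ X)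
    (h1 : wEl (caseW 0) * qOne * (wEl (caseW 0))⁻¹ ∈ X) (h2 : wEl (caseW 0) * qTwo * (wEl (caseW 0))⁻¹ ∈ X) :
    X = lineStabOf lineOne := by
  classical
  haveI := finite_pointStab'
  have h := exc_checks
  simp only [excOk, Bool.and_eq_true, Nat.beq_eq, List.all_eq_true, List.mem_range] at h
  obtain ⟨⟨⟨⟨⟨⟨⟨hv1, hv2⟩, hs1⟩, hs2⟩, hf0⟩, hf1⟩, hf2⟩, hfix⟩ := h
  have e1 := sameW_sound hs1
  have e2 := sameW_sound hs2
  rw [wEl_append, wEl_append] at e1 e2
  have u1 : wEl LineData.wU1 ∈ X := by
    rwa [show qOne = wEl LineData.wQ1 from rfl, ← e1, mul_inv_cancel_right] at h1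
  have u2 : wEl LineData.wU2 ∈ X := by
    rwa [show qTwo = wEl LineData.wQ2 from rfl, ← e2, mul_inv_cancel_right] at h2
  set S : Set pointStab := {pEl, wEl LineData.wU1, wEl LineData.wU2}
  set M := Subgroup.closure S
  have hMX : M ≤ X := (Subgroup.closure_le _).mpr (by
    intro x hx
    simp only [S, Set.mem_insert_iff, Set.mem_singleton_iff] at hx
    rcases hx with rfl | rfl | rfl <;> assumption)
  have hMfix : M ≤ lineStabOf lineOne := (Subgroup.closure_le _).mpr (by
    intro x hx
    simp only [S, Set.mem_insert_iff, Set.mem_singleton_iff] at hx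
    rw [SetLike.mem_coe, mem_lineStabOf]
    refine Fin.ext ?_
    rcases hx with rfl | rfl | rfl
    · rw [pEl, wEl_spec _ word_PC.1]; exact hf0
    · rw [wEl_spec _ hv1]; exact hf1
    · rw [wEl_spec _ hv2]; exact hf2)
  have hM : 7800 ≤ Nat.card M := le_card_of_count exc_count (by norm_num) fun w hw => by
    simp only [List.mem_cons, List.not_mem_nil, or_false] at hw
    refine Subgroup.subset_closure ?_
    rcases hw with rfl | rfl | rfl <;> simp [S, pEl]
  have hidx : (M.subgroupOf X).index ≤ 2 := by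
    have h' := (M.subgroupOf X).card_mul_index
    rw [Nat.card_congr (Subgroup.subgroupOfEquivOfLe hMX).toEquiv, hX] at h'
    nlinarith
  have hnorm : (M.subgroupOf X).Normal := by
    rcases (show (M.subgroupOf X).index = 0 ∨ (M.subgroupOf X).index = 1 ∨ (M.subgroupOf X).index = 2 by omega)
      with h' | h' | h'
    · exact absurd h' Subgroup.index_ne_zero_of_finite
    · rw [Subgroup.index_eq_one] at h'; rw [h']; infer_instance
    · exact Subgroup.normal_of_index_eq_two h'
  have hle : X ≤ lineStabOf lineOne := by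
    intro x hx
    rw [mem_lineStabOf]
    have hfx : ∀ m ∈ M, m • x • lineOne = x • lineOne := fun m hm => by
      have hm' : x⁻¹ * m * x ∈ M := by
        have := hnorm.conj_mem ⟨m, hMX hm⟩ hm ⟨x, hx⟩⁻¹
        simpa [Subgroup.mem_subgroupOf, mul_assoc] using this
      have := mem_lineStabOf.mp (hMfix hm')
      rw [mul_smul, mul_smul, inv_smul_eq_iff] at this
      exact this
    have hval : ∀ (w : List ℕ), validW w = true → wEl w ∈ M →
        Nat.beq (lineW w ((x • lineOne : Fin 4060) : ℕ)) ((x • lineOne : Fin 4060) : ℕ) = true := fun w hw hm => by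
      rw [Nat.beq_eq, ← wEl_spec w hw, hfx _ hm]
    have hlt := hfix ((x • lineOne : Fin 4060) : ℕ) (Fin.isLt _)
    rw [hval _ word_PC.1 (Subgroup.subset_closure (by simp [S, pEl])),
      hval _ hv1 (Subgroup.subset_closure (by simp [S])), hval _ hv2 (Subgroup.subset_closure (by simp [S])),
      cond_true, cond_true, cond_true, Nat.blt_eq] at hlt
    refine Fin.ext ?_
    show _ = 1
    rcases Nat.eq_zero_or_pos ((x • lineOne : Fin 4060) : ℕ) with h0 | h0
    · exfalso
      have h00 : x • lineOne = x • (0 : Fin 4060) := by rw [smul_zero_line]; exact Fin.ext h0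
      exact absurd (congrArg Fin.val (smul_left_cancel x h00)) (by decide)
    · omega
  refine Subgroup.eq_of_le_of_card_ge hle (le_of_eq ?_)
  have := (lineStabOf lineOne).card_mul_index
  rw [index_lineStabOf_one, show Nat.card pointStab = 35942400 from card_first_stab] at this
  omega

end Cfsg.Agent.Lib.RuRankThree90
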