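import Cfsg.Agent.Lib.RuRankThree90.Lines

/-!
# Lower bounds for generated subgroups from trees of four-line states
-/

set_option autoImplicit false
set_option maxRecDepth 100000
set_option maxHeartbeats 4000000

namespace Cfsg.Agent.Lib.RuRankThree90

open Cfsg.Spor Cfsg.Agent.Lib.RuAut
open Cfsg.Agent.Lib.Compute (getP forceNat forceNat_eq)

attribute [local instance] lineAction

/-- The state of a position: four lines of 12 bits. -/
noncomputable def stateAt (T i : ℕ) : ℕ := getP 64 T i % 281474976710656

/-- The parent of a position. -/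
noncomputable def parAt (T i : ℕ) : ℕ := getP 64 T i / 281474976710656 % 8192

/-- The generator of a position. -/
noncomputable def genAt (T i : ℕ) : ℕ := getP 64 T i / 2305843009213693952

/-- The state is that of the given images. -/
noncomputable def stateOk (s : ℕ) (f : ℕ → ℕ) : Bool :=
  (List.range 4).all fun t => Nat.beq (getP 12 s t) (f t)

/-- The tree is valid for the generators and its states are different. -/
noncomputable def countOk (gens : List (List ℕ)) (n T S : ℕ) : Bool :=
  gens.all validW && forceNat T fun T => forceNat S fun S =>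
    stateOk (stateAt T 0) (fun t => LineData.countBase.getD t 0) &&
    (List.range (n - 1)).all (fun i => Nat.ble (parAt T (i + 1)) i && Nat.blt (genAt T (i + 1)) gens.length) &&
    (List.range gens.length).all (fun g => forceNat (tabW (gens.getD g [])) fun tab =>
      (List.range (n - 1)).all fun i => bif Nat.beq (genAt T (i + 1)) g then
        forceNat (stateAt T (parAt T (i + 1))) fun s =>
          stateOk (stateAt T (i + 1)) (fun t => getP 12 tab (getP 12 s t)) else true) &&
    Nat.blt (getP 13 S 0) n &&
    (List.range (n - 1)).all fun i => Nat.blt (getP 13 S (i + 1)) n &&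
      Nat.blt (stateAt T (getP 13 S i)) (stateAt T (getP 13 S (i + 1)))

theorem countBase_lt : (List.range 4).all (fun t => Nat.blt (LineData.countBase.getD t 0) 4060) = true := by
  decide +kernel

theorem stateAt_lt (T i : ℕ) : stateAt T i < 2 ^ 48 := Nat.mod_lt _ (by norm_num)

theorem state_ext {a b : ℕ} (ha : a < 2 ^ 48) (hb : b < 2 ^ 48)
    (h : ∀ t < 4, getP 12 a t = getP 12 b t) : a = b := by
  have h0 := h 0 (by norm_num)
  have h1 := h 1 (by norm_num)
  have h2 := h 2 (by norm_num)
  have h3 := h 3 (by norm_num)
  simp only [Cfsg.Agent.Lib.Compute.getP_eq] at h0 h1 h2 h3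
  norm_num at h0 h1 h2 h3
  omega

theorem le_card_of_count {gens : List (List ℕ)} {n T S : ℕ} (h : countOk gens n T S = true) (hn : 0 < n)
    {H : Subgroup pointStab} (hH : ∀ w ∈ gens, wEl w ∈ H) : n ≤ Nat.card H := by
  classical
  haveI : Finite pointStab := by
    haveI := finite_fourRu
    infer_instance
  simp only [countOk, forceNat_eq, Bool.and_eq_true, List.all_eq_true, List.mem_range, Nat.ble_eq,
    Nat.blt_eq] at h
  obtain ⟨hv, ⟨⟨⟨h0, hpar⟩, hgen⟩, hS0⟩, hS⟩ := h
  have hb : ∀ t < 4, LineData.countBase.getD t 0 < 4060 := fun t ht => by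
    simpa using List.all_eq_true.mp countBase_lt t (List.mem_range.mpr ht)
  have hrep : ∀ i, i < n → ∃ f ∈ H, ∀ t (ht : t < 4),
      getP 12 (stateAt T i) t = ((f • (⟨_, hb t ht⟩ : Fin 4060) : Fin 4060) : ℕ) := by
    intro i
    induction i using Nat.strong_induction_on with
    | _ i ih =>
      intro hi
      rcases i with _ | i
      · refine ⟨1, one_mem _, fun t ht => ?_⟩
        simp only [stateOk, List.all_eq_true, List.mem_range, Nat.beq_eq] at h0
        rw [h0 t ht, one_smul]
      · obtain ⟨hp, hg⟩ := hpar i (by omega)
        obtain ⟨f, hf, hft⟩ := ih _ (Nat.lt_succ_of_le hp) (by omega)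
        have hmem : gens.getD (genAt T (i + 1)) [] ∈ gens := by
          rw [List.getD_eq_getElem _ _ hg]; exact List.getElem_mem _
        refine ⟨_, mul_mem (hH _ hmem) hf, fun t ht => ?_⟩
        have e := hgen _ hg i (by omega)
        simp only [Nat.beq_refl, cond_true, stateOk, List.all_eq_true, List.mem_range, Nat.beq_eq] at e
        rw [e t ht, hft t ht, getP_tabW (hv _ hmem), mul_smul]
  choose f hfH hft using hrep
  have hlt : ∀ j < n, getP 13 S j < n := fun j hj => by
    rcases j with _ | j
    · exact hS0
    · exact (hS j (by omega)).1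
  have hmono : ∀ i j : ℕ, i < j → j < n → stateAt T (getP 13 S i) < stateAt T (getP 13 S j) := by
    intro i j hij hj
    induction j with
    | zero => omega
    | succ j ih =>
      have h' := (hS j (by omega)).2
      rcases eq_or_lt_of_le (Nat.le_of_lt_succ hij) with rfl | hlt'
      · exact h'
      · exact lt_trans (ih hlt' (by omega)) h'
  let F : Fin n → H := fun j => ⟨f _ (hlt j j.isLt), hfH _ _⟩
  refine (Nat.card_fin n).symm.trans_le (Nat.card_le_card_of_injective F fun a b e => ?_)
  have e' : f _ (hlt a a.isLt) = f _ (hlt b b.isLt) := congrArg Subtype.val e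
  have es : stateAt T (getP 13 S a) = stateAt T (getP 13 S b) :=
    state_ext (stateAt_lt ..) (stateAt_lt ..) fun t ht => by
      rw [hft _ (hlt a a.isLt) t ht, hft _ (hlt b b.isLt) t ht, e']
  rcases lt_trichotomy (a : ℕ) b with h' | h' | h'
  · exact absurd (hmono _ _ h' b.isLt) (by omega)
  · exact Fin.ext h'
  · exact absurd (hmono _ _ h' a.isLt) (by omega)

end Cfsg.Agent.Lib.RuRankThree90
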