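import Cfsg.Agent.Lib.RuRankThree90.Lines
import Mathlib.GroupTheory.Sylow

/-!
# Subgroups of index 1755 in the stabiliser of the first vector fix an orthogonal line
-/

set_option autoImplicit false
set_option maxRecDepth 100000
set_option maxHeartbeats 4000000

namespace Cfsg.Agent.Lib.RuRankThree90

open Cfsg.Spor Cfsg.Agent.Lib.RuAut
open Cfsg.Agent.Lib.Compute (getP forceNat forceNat_eq)
open scoped Pointwise

attribute [local instance] lineAction

theorem card_pointStab : Nat.card pointStab = 35942400 := card_first_stab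

theorem finite_pointStab : Finite pointStab := by
  haveI := finite_fourRu
  infer_instance

/-- The small suborbits at a point. -/
def Near (y z : Fin 4060) : Prop :=
  z ≠ y ∧ (MulAction.orbit (MulAction.stabilizer pointStab y) z).ncard < 80

theorem near_smul (f : pointStab) {y z : Fin 4060} (h : Near y z) : Near (f • y) (f • z) := by
  refine ⟨fun e => h.1 (smul_left_cancel f e), ?_⟩
  have e : MulAction.orbit (MulAction.stabilizer pointStab (f • y)) (f • z) =
      (f • ·) '' MulAction.orbit (MulAction.stabilizer pointStab y) z := by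
    ext x
    constructor
    · rintro ⟨⟨s, hs⟩, rfl⟩
      refine ⟨(f⁻¹ * s * f) • z, ⟨⟨f⁻¹ * s * f, ?_⟩, rfl⟩, ?_⟩
      · rw [MulAction.mem_stabilizer_iff] at hs ⊢
        rw [mul_smul, mul_smul, hs, inv_smul_smul]
      · show f • (f⁻¹ * s * f) • z = s • f • z
        simp [smul_smul, mul_assoc]
    · rintro ⟨_, ⟨⟨s, hs⟩, rfl⟩, rfl⟩
      refine ⟨⟨f * s * f⁻¹, ?_⟩, ?_⟩
      · rw [MulAction.mem_stabilizer_iff] at hs ⊢
        rw [mul_smul, mul_smul, inv_smul_smul, hs]
      · show (f * s * f⁻¹) • f • z = f • s • z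
        simp [smul_smul, mul_assoc]
  rw [e, Set.ncard_image_of_injective _ (MulAction.injective f)]
  exact h.2

/-- The root line. -/
noncomputable def rootLine : Fin 4060 := aLine root0

/-- The ten lines are the fifth suborbit. -/
noncomputable def nearOk : Bool :=
  forceNat (subBits 4) fun S => (List.range 1755).all fun k => forceNat (aNode k / 4) fun l =>
    bif hasBit S l then LineData.near.elem l else true

theorem near_checks : nearOk = true := by decide +kernel

theorem near_root {z : Fin 4060} (hz : z ∈ Set.range aLine) (h : Near rootLine z) :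
    (z : ℕ) ∈ LineData.near := by
  classical
  obtain ⟨k, rfl⟩ := hz
  have hc := sub_checks
  simp only [subOk, forceNat_eq, Bool.and_eq_true, List.all_eq_true, List.mem_range, Nat.beq_eq] at hc
  obtain ⟨⟨⟨⟨-, hone⟩, hsize⟩, hroot⟩, -⟩ := hc
  obtain ⟨i, hi, hik⟩ : ∃ i < 5, hasBit (subBits i) (aNode k / 4) = true := by
    have := hone k k.isLt
    by_contra hne
    push Not at hne
    simp only [hne 0 (by norm_num), hne 1 (by norm_num), hne 2 (by norm_num), hne 3 (by norm_num),
      hne 4 (by norm_num)] at this
    revert this; decide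
  rcases eq_or_ne i 4 with rfl | hi4
  · have h4 := near_checks
    simp only [nearOk, forceNat_eq, List.all_eq_true, List.mem_range] at h4
    have := h4 k k.isLt
    rw [hik, cond_true, List.elem_iff] at this
    exact this
  exfalso
  have key : ∀ m : Fin 1755, hasBit (subBits i) (aNode m / 4) = true →
      aLine m ∈ MulAction.orbit (MulAction.stabilizer pointStab rootLine) (aLine k) := by
    intro m hm
    obtain ⟨j, hj, s, hs, hsk⟩ := sub_reach hi hik
    obtain ⟨j', hj', t, ht, htm⟩ := sub_reach hi hm
    obtain rfl : j' = j := Fin.ext (aNode_inj j'.isLt j.isLt (hj'.trans hj.symm))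
    have hg : (t * s⁻¹ : tits) • root0 = root0 := by
      rw [mul_smul, inv_smul_eq_iff.mpr hs.symm, ht]
    have hgk : (t * s⁻¹ : tits) • k = m := by rw [← hsk, mul_smul, inv_smul_smul, htm]
    refine ⟨⟨((t * s⁻¹ : tits) : pointStab), ?_⟩, ?_⟩
    · rw [MulAction.mem_stabilizer_iff, rootLine, ← aLine_posPerm]
      exact congrArg aLine hg
    · show ((t * s⁻¹ : tits) : pointStab) • aLine k = aLine m
      rw [← aLine_posPerm]
      exact congrArg aLine hgk
  rcases Nat.eq_zero_or_pos i with rfl | hpos
  · have h0 : hasBit (subBits 0) (aNode root0 / 4) = true := hroot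
    obtain ⟨⟨s, hs⟩, e⟩ := key root0 h0
    refine h.1 (smul_left_cancel s ?_)
    rw [MulAction.mem_stabilizer_iff.mp hs]
    exact e
  · have hbig : 80 ≤ (MulAction.orbit (MulAction.stabilizer pointStab rootLine) (aLine k)).ncard := by
      let F : Finset (Fin 1755) := Finset.univ.filter fun m => hasBit (subBits i) (aNode m / 4) = true
      have hsub : aLine '' (F : Set (Fin 1755)) ⊆
          MulAction.orbit (MulAction.stabilizer pointStab rootLine) (aLine k) := by
        rintro _ ⟨m, hm, rfl⟩
        exact key m (by simpa [F] using hm)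
      refine le_trans ?_ (Set.ncard_le_ncard hsub (Set.toFinite _))
      rw [Set.ncard_image_of_injective _ aLine_inj, Set.ncard_coe_finset]
      have hcard : F.card = ([1, 1024, 80, 640, 10] : List ℕ).getD i 0 := by
        rw [← hsize i hi, normal_transitive.countP_range, Finset.card_filter,
          ← Fin.sum_univ_eq_sum_range (fun m => if hasBit (subBits i) (aNode m / 4) = true then 1 else 0)]
      rw [hcard]
      interval_cases i <;> first | omega | decide
    exact absurd h.2 (by omega)

/-- A member of the ten is near at most one other member through the listed moves. -/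
noncomputable def pairsOk : Bool :=
  Nat.beq LineData.near.length 10 && Nat.beq LineData.nearMoves.length 10 &&
    (List.range 10).all fun i =>
      let w := LineData.nearMoves.getD i []
      validW w && Nat.beq (lineW w (aNode 0 / 4)) (LineData.near.getD i 0) &&
        decide ((LineData.near.countP fun z => LineData.near.elem (lineW w z)) ≤ 1)

theorem pairs_checks : pairsOk = true := by decide +kernel

theorem no_triangle {y z z' : Fin 4060} (hy : (y : ℕ) ∈ LineData.near) (hz : (z : ℕ) ∈ LineData.near)
    (hz' : (z' : ℕ) ∈ LineData.near) (hzA : z ∈ Set.range aLine) (hzA' : z' ∈ Set.range aLine)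
    (h : Near y z) (h' : Near y z') : z = z' := by
  have hc := pairs_checks
  simp only [pairsOk, Bool.and_eq_true, Nat.beq_eq, List.all_eq_true, List.mem_range, decide_eq_true_eq] at hc
  obtain ⟨⟨hl, -⟩, hall⟩ := hc
  obtain ⟨i, hi, hiy⟩ := List.mem_iff_getElem.mp hy
  obtain ⟨⟨hv, hroot⟩, hle⟩ := hall i (by omega)
  set w := LineData.nearMoves.getD i []
  have hg : wEl w • rootLine = y := Fin.ext (by
    rw [wEl_spec w hv, ← hiy, ← List.getD_eq_getElem _ 0 hi, ← hroot]
    rfl)
  have key : ∀ x : Fin 4060, x ∈ Set.range aLine → Near y x → (x : ℕ) ∈ LineData.near →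
      ∃ x0 : ℕ, x0 ∈ LineData.near ∧ LineData.near.elem (lineW w x0) = true ∧ lineW w x0 = x := by
    intro x hxA hn hx
    have h1 : Near rootLine ((wEl w)⁻¹ • x) := by
      have := near_smul (wEl w)⁻¹ hn
      rwa [← hg, inv_smul_smul] at this
    have hA : (wEl w)⁻¹ • x ∈ Set.range aLine := by
      obtain ⟨m, rfl⟩ := hxA
      exact ⟨_, aLine_posPerm _ m⟩
    have e : lineW w ((wEl w)⁻¹ • x : Fin 4060) = x := by rw [← wEl_spec w hv, smul_inv_smul]
    exact ⟨_, near_root hA h1, by rw [e, List.elem_iff]; exact hx, e⟩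
  obtain ⟨a, ha, ha', ea⟩ := key z hzA h hz
  obtain ⟨b, hb, hb', eb⟩ := key z' hzA' h' hz'
  suffices a = b by exact Fin.ext (by rw [← ea, ← eb, this])
  by_contra hne
  rw [List.countP_eq_length_filter] at hle
  have hfa : a ∈ LineData.near.filter fun z => LineData.near.elem (lineW w z) := List.mem_filter.mpr ⟨ha, ha'⟩
  have hfb : b ∈ LineData.near.filter fun z => LineData.near.elem (lineW w z) := List.mem_filter.mpr ⟨hb, hb'⟩
  generalize (LineData.near.filter fun z => LineData.near.elem (lineW w z)) = L at hle hfa hfb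
  match L, hle with
  | [], _ => simp at hfa
  | [c], _ => simp at hfa hfb; exact hne (hfa.trans hfb.symm)

/-- A subgroup of index 1755 is the stabiliser of an orthogonal line. -/
theorem stab_1755 {X : Subgroup pointStab} (hX : X.index = 1755) :
    ∃ k : Fin 1755, X = lineStabOf (aLine k) := by
  classical
  haveI := finite_pointStab
  haveI : Fact (Nat.Prime 2) := ⟨Nat.prime_two⟩
  have hcX : Nat.card X = 20480 := by
    have := X.card_mul_index
    rw [hX, card_pointStab] at this
    omega
  have hPcard : ∀ k, Nat.card (lineStabOf (aLine k)) = 20480 := fun k => by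
    have := (lineStabOf (aLine k)).card_mul_index
    rw [index_lineStabOf_a, card_pointStab] at this
    omega
  obtain ⟨S, hS⟩ := Sylow.exists_subgroup_card_pow_prime (G := X) 2 (n := 12) (by rw [hcX]; norm_num)
  have hSp : IsPGroup 2 S := IsPGroup.of_card hS
  letI : MulAction S (Fin 1755) := MulAction.compHom _ (posPerm.comp (X.subtype.comp S.subtype))
  obtain ⟨k0, hk0⟩ := IsPGroup.nonempty_fixed_point_of_prime_not_dvd_card hSp (Fin 1755)
    (by rw [Nat.card_fin]; norm_num)
  obtain ⟨g, hg⟩ := aLine_move k0 root0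
  have hg' : g • aLine k0 = rootLine := hg
  set X' := X.map (MulAut.conj g).toMonoidHom
  suffices hsuf : X' = lineStabOf rootLine by
    refine ⟨k0, ?_⟩
    ext x
    have h1 : x ∈ X ↔ g * x * g⁻¹ ∈ X' := by
      constructor
      · exact fun hx => ⟨x, hx, rfl⟩
      · rintro ⟨y, hy, e⟩
        have e' : g * y * g⁻¹ = g * x * g⁻¹ := e
        simpa using (mul_left_cancel (mul_right_cancel e')) ▸ hy
    rw [h1, hsuf, mem_lineStabOf, mem_lineStabOf, ← hg', mul_smul, mul_smul, inv_smul_smul,
      smul_left_cancel_iff]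
  set T : Subgroup pointStab := (S.map X.subtype).map (MulAut.conj g).toMonoidHom
  have hTX : T ≤ X' := by
    refine Subgroup.map_mono ?_
    rintro _ ⟨y, -, rfl⟩
    exact y.2
  have hT : Nat.card T = 4096 := by
    rw [Subgroup.card_map_of_injective (MulAut.conj g).injective,
      Subgroup.card_map_of_injective X.subtype_injective, hS]
    norm_num
  have hTfix : T ≤ lineStabOf rootLine := by
    rintro _ ⟨_, ⟨s, hs, rfl⟩, rfl⟩
    rw [mem_lineStabOf]
    show (g * (s : pointStab) * g⁻¹) • rootLine = rootLine
    rw [← hg', mul_smul, mul_smul, inv_smul_smul, ← aLine_posPerm]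
    exact congrArg (fun j => g • aLine j) (hk0 ⟨s, hs⟩)
  have hcX' : Nat.card X' = 20480 := by
    rw [Subgroup.card_map_of_injective (MulAut.conj g).injective, hcX]
  by_contra hne
  set O := MulAction.orbit X' rootLine
  have hXS := (MulAction.stabilizer X' rootLine).card_mul_index
  rw [MulAction.index_stabilizer, hcX'] at hXS
  have h4096 : 4096 ∣ Nat.card (MulAction.stabilizer X' rootLine) := by
    have hle : T.subgroupOf X' ≤ MulAction.stabilizer X' rootLine := fun x hx => hTfix hx
    have := Subgroup.card_dvd_of_le hle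
    rwa [Nat.card_congr (Subgroup.subgroupOfEquivOfLe hTX).toEquiv, hT] at this
  have hO5 : O.ncard ∣ 5 := by
    obtain ⟨c, hc⟩ := h4096
    rw [hc] at hXS
    exact ⟨c, by linarith⟩
  have hO : O.ncard = 5 := by
    rcases (Nat.dvd_prime Nat.prime_five).mp hO5 with h | h
    · exfalso
      obtain ⟨z, hz⟩ := Set.ncard_eq_one.mp h
      have hle : X' ≤ lineStabOf rootLine := fun x hx => by
        have h1 : (⟨x, hx⟩ : X') • rootLine ∈ O := MulAction.mem_orbit _ _
        have h2 : rootLine ∈ O := MulAction.mem_orbit_self _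
        rw [hz, Set.mem_singleton_iff] at h1 h2
        exact h1.trans h2.symm
      exact hne (Subgroup.eq_of_le_of_card_ge hle (le_of_eq (by rw [hcX', rootLine, hPcard])))
    · exact h
  have hOA : O ⊆ Set.range aLine := by
    rintro _ ⟨x, rfl⟩
    exact ⟨_, aLine_posPerm (x : pointStab) root0⟩
  have hnear0 : ∀ y ∈ O, y ≠ rootLine → Near rootLine y := by
    intro y hy hyne
    refine ⟨hyne, ?_⟩
    have hPc : Nat.card (MulAction.stabilizer pointStab rootLine) = 20480 := hPcard root0
    have h1 := (MulAction.stabilizer (MulAction.stabilizer pointStab rootLine) y).card_mul_index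
    rw [MulAction.index_stabilizer, hPc] at h1
    have h2 := (MulAction.stabilizer T y).card_mul_index
    rw [MulAction.index_stabilizer, hT] at h2
    have hTy : MulAction.orbit T y ⊆ O \ {rootLine} := by
      rintro _ ⟨⟨t, ht⟩, rfl⟩
      refine ⟨?_, fun e => hyne ?_⟩
      · obtain ⟨x, rfl⟩ := hy
        exact ⟨⟨t, hTX ht⟩ * x, mul_smul _ _ _⟩
      · have e' : t • y = rootLine := e
        exact smul_left_cancel t (e'.trans (hTfix ht).symm)
    have h4 : (MulAction.orbit T y).ncard ≤ 4 := by
      refine le_trans (Set.ncard_le_ncard hTy (Set.toFinite _)) ?_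
      rw [Set.ncard_diff_singleton_of_mem (MulAction.mem_orbit_self (M := X') rootLine), hO]
    have h3 : Nat.card (MulAction.stabilizer T y) ≤
        Nat.card (MulAction.stabilizer (MulAction.stabilizer pointStab rootLine) y) :=
      Nat.card_le_card_of_injective (fun t => ⟨⟨t.1.1, hTfix t.1.2⟩, t.2⟩) fun a b e =>
        Subtype.ext (Subtype.ext (congrArg (fun u => u.1.1) e))
    nlinarith
  have hnear : ∀ y ∈ O, ∀ z ∈ O, z ≠ y → Near y z := by
    intro y hy z hz hzy
    obtain ⟨x, rfl⟩ := hy
    obtain ⟨x', rfl⟩ := hz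
    have := near_smul (x : pointStab) (hnear0 ((x⁻¹ * x' : X') • rootLine) (MulAction.mem_orbit _ _) fun e =>
      hzy (by
        show x' • rootLine = x • rootLine
        conv_rhs => rw [← e]
        rw [smul_smul, mul_inv_cancel_left]))
    convert this using 1
    · rfl
    · show x' • rootLine = x • (x⁻¹ * x') • rootLine
      rw [smul_smul, mul_inv_cancel_left]
  have hcard : (O \ {rootLine}).ncard = 4 := by
    rw [Set.ncard_diff_singleton_of_mem (MulAction.mem_orbit_self (M := X') rootLine), hO]
  obtain ⟨y, hy⟩ := Set.nonempty_of_ncard_ne_zero (s := O \ {rootLine}) (by omega)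
  have hrest : ((O \ {rootLine}) \ {y}).ncard = 3 := by
    rw [Set.ncard_diff_singleton_of_mem hy, hcard]
  obtain ⟨z, z', z'', hzz, -, -, e⟩ := Set.ncard_eq_three.mp hrest
  have hz : z ∈ (O \ {rootLine}) \ {y} := by rw [e]; simp
  have hz' : z' ∈ (O \ {rootLine}) \ {y} := by rw [e]; simp
  have hmem : ∀ u ∈ O \ {rootLine}, (u : ℕ) ∈ LineData.near := fun u hu =>
    near_root (hOA hu.1) (hnear0 u hu.1 hu.2)
  exact hzz (no_triangle (hmem y hy) (hmem z hz.1) (hmem z' hz'.1) (hOA hz.1.1) (hOA hz'.1.1)
    (hnear y hy.1 z hz.1.1 hz.2) (hnear y hy.1 z' hz'.1.1 hz'.2))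

end Cfsg.Agent.Lib.RuRankThree90
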