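import Cfsg.Agent.Lib.RuRankThree90.Cases

/-!
# Subgroups of index 2304 in the stabiliser of the first vector fix a line of the third orbit
-/

set_option autoImplicit false
set_option maxRecDepth 100000
set_option maxHeartbeats 4000000

namespace Cfsg.Agent.Lib.RuRankThree90

open Cfsg.Spor Cfsg.Agent.Lib.RuAut

attribute [local instance] lineAction

theorem c_conj (m : ℕ) : cEl ^ m * pEl * (cEl ^ m)⁻¹ = pEl ^ (LineData.expC ^ m) := by
  have h := sameW_sound pc_checks.1
  rw [wEl_append, wEl_append, wEl_repW] at h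
  induction m with
  | zero => simp
  | succ m ih =>
    have e : cEl * pEl * cEl⁻¹ = pEl ^ LineData.expC := by
      rw [pEl, cEl, h, mul_inv_cancel_right]
    rw [pow_succ' cEl, mul_inv_rev, show cEl * cEl ^ m * pEl * ((cEl ^ m)⁻¹ * cEl⁻¹) =
      cEl * (cEl ^ m * pEl * (cEl ^ m)⁻¹) * cEl⁻¹ by group, ih, ← conj_pow, e, ← pow_mul, ← pow_succ']

theorem orderOf_pEl : orderOf pEl = 13 := by
  haveI : Fact (Nat.Prime 13) := ⟨by norm_num⟩
  refine orderOf_eq_prime ?_ fun e => ?_
  · have h := sameW_sound pc_checks.2.1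
    rwa [wEl_repW, show wEl [] = 1 by simp [wEl]] at h
  · have h := pc_checks.2.2
    have hlt : cycPt 0 < 4060 := (cyc_facts.1 0 (by norm_num)).1
    have h1 := wEl_spec _ word_PC.1 ⟨_, hlt⟩
    rw [show wEl LineData.wP = pEl from rfl, e, one_smul] at h1
    have h2 : lineW LineData.wP (cycPt 0) = cycPt 0 := by simpa only [Fin.val_mk] using h1.symm
    unfold cycPt at h2
    rw [h2, Nat.beq_refl] at h
    exact Bool.noConfusion h

theorem lineStabOf_smul (g : pointStab) (l : Fin 4060) :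
    lineStabOf (g • l) = (lineStabOf l).map (MulAut.conj g).toMonoidHom := by
  ext x
  constructor
  · intro hx
    refine ⟨g⁻¹ * x * g, ?_, by show g * (g⁻¹ * x * g) * g⁻¹ = x; group⟩
    rw [SetLike.mem_coe, mem_lineStabOf, mul_smul, mul_smul, mem_lineStabOf.mp hx, inv_smul_smul]
  · rintro ⟨y, hy, rfl⟩
    rw [mem_lineStabOf]
    show (g * y * g⁻¹) • g • l = g • l
    rw [mul_smul, mul_smul, inv_smul_smul, mem_lineStabOf.mp hy]

theorem map_conj_conj (X : Subgroup pointStab) (g : pointStab) :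
    (X.map (MulAut.conj g⁻¹).toMonoidHom).map (MulAut.conj g).toMonoidHom = X := by
  ext x
  constructor
  · rintro ⟨_, ⟨y, hy, rfl⟩, rfl⟩
    show g * (g⁻¹ * y * g⁻¹⁻¹) * g⁻¹ ∈ X
    simpa [mul_assoc] using hy
  · intro hx
    exact ⟨g⁻¹ * x * g, ⟨x, hx, by show g⁻¹ * x * g⁻¹⁻¹ = _; rw [inv_inv]⟩, by show g * (g⁻¹ * x * g) * g⁻¹ = x; group⟩

/-- With the element of order thirteen inside, the subgroup is the stabiliser of a line of the third orbit. -/
theorem exists_line_of_p {X : Subgroup pointStab} (hX : Nat.card X = 15600) (hp : pEl ∈ X) :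
    ∃ g : pointStab, X = lineStabOf (g • lineOne) := by
  haveI := finite_pointStab'
  haveI : Fact (Nat.Prime 5) := ⟨by norm_num⟩
  obtain ⟨Q, hQ⟩ := Sylow.exists_subgroup_card_pow_prime (G := X) 5 (n := 2) (by rw [hX]; norm_num)
  have hQc : Nat.card (Q.map X.subtype) = 25 := by
    rw [Subgroup.card_map_of_injective X.subtype_injective, hQ]; norm_num
  obtain ⟨e, he, hQe⟩ := exists_entry hQc
  obtain ⟨hi, -, -⟩ := entry_facts he
  set a := cEl ^ ePowC e * pEl ^ ePowP e
  have hg : gEntry e = a * wEl (caseW (eCase e)) := rfl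
  set Y := X.map (MulAut.conj a⁻¹).toMonoidHom
  have hYc : Nat.card Y = 15600 := by
    rw [Subgroup.card_map_of_injective (MulAut.conj a⁻¹).injective, hX]
  have hpY : pEl ∈ Y := by
    refine ⟨a * pEl * a⁻¹, ?_, by show a⁻¹ * (a * pEl * a⁻¹) * a⁻¹⁻¹ = pEl; group⟩
    have ea : a * pEl * a⁻¹ = pEl ^ (LineData.expC ^ ePowC e) := by
      rw [← c_conj]
      show cEl ^ ePowC e * pEl ^ ePowP e * pEl * (cEl ^ ePowC e * pEl ^ ePowP e)⁻¹ = _
      group
    rw [SetLike.mem_coe, ea]
    exact pow_mem hp _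
  have hq : ∀ q ∈ qGroup, wEl (caseW (eCase e)) * q * (wEl (caseW (eCase e)))⁻¹ ∈ Y := by
    intro q hq
    have h1 : gEntry e * q * (gEntry e)⁻¹ ∈ X := by
      have : gEntry e * q * (gEntry e)⁻¹ ∈ Q.map X.subtype := by rw [hQe]; exact ⟨q, hq, rfl⟩
      obtain ⟨y, -, ey⟩ := this
      exact ey ▸ y.2
    refine ⟨_, h1, ?_⟩
    show a⁻¹ * (gEntry e * q * (gEntry e)⁻¹) * a⁻¹⁻¹ = _
    rw [hg]
    group
  suffices hY : Y = lineStabOf lineOne from ⟨a, by rw [lineStabOf_smul, ← hY, map_conj_conj]⟩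
  rcases Nat.eq_zero_or_pos (eCase e) with h0 | h0
  · rw [h0] at hq
    exact case_zero hYc hpY (hq _ qOne_mem) (hq _ qTwo_mem)
  · obtain ⟨i, hie⟩ : ∃ i, eCase e = i + 1 := ⟨eCase e - 1, by omega⟩
    rw [hie] at hq
    exact (case_absurd hYc hpY (by omega) (hq _ qOne_mem) (hq _ qTwo_mem)).elim

theorem factorization_thirteen : (Nat.card pointStab).factorization 13 = 1 := by
  rw [show Nat.card pointStab = 13 ^ 1 * 2764800 from card_first_stab, Nat.factorization_mul (by norm_num) (by norm_num),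
    Nat.Prime.factorization_pow (by norm_num), Finsupp.add_apply, Finsupp.single_eq_same,
    Nat.factorization_eq_zero_of_not_dvd (by norm_num)]

/-- A subgroup of index 2304 is the stabiliser of a line of the third orbit. -/
theorem stab_2304 {X : Subgroup pointStab} (hX : X.index = 2304) :
    ∃ l : Fin 4060, l ≠ 0 ∧ l ∉ Set.range aLine ∧ X = lineStabOf l := by
  haveI := finite_pointStab'
  haveI : Fact (Nat.Prime 13) := ⟨by norm_num⟩
  have hXc : Nat.card X = 15600 := by
    have := X.card_mul_index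
    rw [hX, show Nat.card pointStab = 35942400 from card_first_stab] at this
    omega
  suffices h : ∃ g : pointStab, X = lineStabOf (g • lineOne) by
    obtain ⟨g, hg⟩ := h
    have hm : g • lineOne ∈ MulAction.orbit pointStab lineOne := MulAction.mem_orbit _ _
    rw [orbit_lineOne, Set.mem_compl_iff, Set.mem_insert_iff, not_or] at hm
    exact ⟨_, hm.1, hm.2, hg⟩
  obtain ⟨x, hx⟩ := exists_prime_orderOf_dvd_card' (G := X) 13 (by rw [hXc]; norm_num)
  have hx' : orderOf (x : pointStab) = 13 := by rw [← hx]; exact orderOf_injective X.subtype X.subtype_injective x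
  let P1 : Sylow 13 pointStab := Sylow.ofCard (Subgroup.zpowers (x : pointStab))
    (by rw [Nat.card_zpowers, hx', factorization_thirteen, pow_one])
  let P2 : Sylow 13 pointStab := Sylow.ofCard (Subgroup.zpowers pEl)
    (by rw [Nat.card_zpowers, orderOf_pEl, factorization_thirteen, pow_one])
  obtain ⟨g, hg⟩ := MulAction.exists_smul_eq pointStab P1 P2
  have hg' : (Subgroup.zpowers (x : pointStab)).map (MulAut.conj g).toMonoidHom = Subgroup.zpowers pEl :=
    congrArg (fun P : Sylow 13 pointStab => (P : Subgroup pointStab)) hg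
  set Z := X.map (MulAut.conj g).toMonoidHom
  have hpZ : pEl ∈ Z := by
    have h := Subgroup.mem_zpowers pEl
    rw [← hg'] at h
    exact Subgroup.map_mono (Subgroup.zpowers_le.mpr x.2) h
  obtain ⟨k, hk⟩ := exists_line_of_p (by
    show Nat.card Z = 15600
    rw [Subgroup.card_map_of_injective (MulAut.conj g).injective, hXc]) hpZ
  refine ⟨g⁻¹ * k, ?_⟩
  rw [mul_smul, lineStabOf_smul g⁻¹, ← hk]
  have := map_conj_conj X g⁻¹
  rw [inv_inv] at this
  exact this.symm

end Cfsg.Agent.Lib.RuRankThree90
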