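import Cfsg.Agent.Lib.RuRankThree90.Orbit
import Cfsg.Agent.Lib.RuAut.Tits
import Cfsg.Agent.Lib.Twisted.Ree.F4Two
import Cfsg.Agent.Lib.Twisted.Ree.F4TwoSimple

/-!
# The stabiliser of the first vector in the model of the Rudvalis group is `²F₄(2)`
-/

set_option autoImplicit false
set_option maxRecDepth 100000
set_option maxHeartbeats 4000000

namespace Cfsg.Agent.Lib.RuRankThree90

open Cfsg.Lie Cfsg.Spor Cfsg.Agent.Lib.ReeTwo
open Cfsg.Agent.Lib.RuAut
open Cfsg.Agent.Lib.Compute (getP forceNat forceNat_eq)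

theorem card_ree : Nat.card ↥ree = 35942400 := by
  have hK : Fintype.card (ZMod 2) = 2 ^ (2 * 0 + 1) := ZMod.card 2
  obtain ⟨σ, hσ⟩ := Lib.Twisted.ReeF.exists_sigma hK
  exact (Lib.Twisted.ReeF.card_two (ZMod.card 2) hσ).trans (by norm_num)

/-- The generators of the stabiliser of the first vector. -/
noncomputable def sGens : List ℕ := [17, 18, 19, 20, 21, 22, 23]

theorem sGens_eq : Cfsg.Agent.Lib.RuAut.Data.tGens ++ [Cfsg.Agent.Lib.RuAut.Data.uGen] = sGens := rfl

theorem sGens_mem {g : ℕ} (hg : g ∈ sGens) : g < 32 ∧ gen g ∈ pointStab := by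
  rw [← sGens_eq] at hg
  exact ⟨kList_lt hg, mem_pointStab.mpr (kList_fix hg)⟩

theorem tGens_chain : chainOk RuAut.Data.tGens [] [RuAut.Data.tTree0, RuAut.Data.tTree1, RuAut.Data.tTree2,
    RuAut.Data.tTree3, RuAut.Data.tTree4, RuAut.Data.tTree5] = true ∧
    chainProd [RuAut.Data.tTree0, RuAut.Data.tTree1, RuAut.Data.tTree2, RuAut.Data.tTree3, RuAut.Data.tTree4,
      RuAut.Data.tTree5] = 17971200 := by decide +kernel

theorem pointStab_le_genGroup : pointStab ≤ genGroup sGens := by
  haveI := finite_fourRu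
  have hT : tits.map pointStab.subtype ≤ genGroup RuAut.Data.tGens := by
    have hle : genGroup RuAut.Data.tGens ≤ tits.map pointStab.subtype := by
      refine (Subgroup.closure_le _).mpr ?_
      rintro _ ⟨g, hg, rfl⟩
      obtain ⟨a, c, ha, hc, e⟩ := pair_spec (List.mem_append_left _ hg)
      exact ⟨a * c, mul_mem (eps_odd ha) (eps_odd hc), e⟩
    refine (Subgroup.eq_of_le_of_card_ge hle ?_).ge
    rw [Subgroup.card_map_of_injective pointStab.subtype_injective, card_tits, ← tGens_chain.2]
    exact le_trans (chain_lower _ _ _ tGens_chain.1) (Subgroup.card_le_of_le inf_le_left)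
  have hsub : genGroup RuAut.Data.tGens ≤ genGroup sGens :=
    genGroup_mono (sGens_eq ▸ List.subset_append_left _ _)
  intro f hf
  rcases (by decide +kernel : ∀ x : Multiplicative (ZMod 2), x = 1 ∨ x = Multiplicative.ofAdd 1)
    (eps ⟨f, hf⟩) with h | h
  · exact hsub (hT ⟨⟨f, hf⟩, h, rfl⟩)
  · have h1 : (⟨gen RuAut.Data.uGen, uGen_mem⟩ : pointStab)⁻¹ * ⟨f, hf⟩ ∈ tits := by
      show eps _ = 1
      rw [map_mul, map_inv, h, eps_outer, inv_mul_cancel]
    have h2 : (gen RuAut.Data.uGen)⁻¹ * f ∈ genGroup sGens := hsub (hT ⟨_, h1, rfl⟩)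
    have hu : gen RuAut.Data.uGen ∈ genGroup sGens :=
      gen_mem_genGroup (by rw [← sGens_eq]; exact List.mem_append_right _ (List.mem_singleton_self _))
    simpa using mul_mem hu h2

/-- The words give the generators. -/
noncomputable def wordOk : Bool :=
  (Data.words.map Prod.fst == sGens) && Data.words.all fun p =>
    (p.2.all fun i => Nat.blt i 9) && forceNat (mkTab (genF p.1)) fun tab =>
      (List.range 1755).all fun k => forceNat (wordImg p.2 k) fun j => edgeLine tab (aNode k) (aNode j)

theorem word_checks : wordOk = true := by decide +kernel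

theorem exists_word {g : ℕ} (hg : g ∈ sGens) :
    ∃ r : ↥ree, orbPerm r = posPerm ⟨gen g, (sGens_mem hg).2⟩ := by
  have h := word_checks
  simp only [wordOk, forceNat_eq, Bool.and_eq_true, List.all_eq_true, List.mem_range, Nat.blt_eq,
    beq_iff_eq] at h
  have hg' := hg
  rw [← h.1, List.mem_map] at hg'
  obtain ⟨p, hp, rfl⟩ := hg'
  obtain ⟨hw, he⟩ := h.2 p hp
  refine ⟨(p.2.map genEl).prod, Equiv.ext fun k => ?_⟩
  refine ((posImg_eq (f := ⟨gen p.1, _⟩) ?_).symm)
  rw [wordImg_spec _ hw]
  exact (edgeLine_sound (sGens_mem hg).1 (aTree_facts.2.1 k k.isLt).1 (he k k.isLt)).symm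

theorem posPerm_range_le : posPerm.range ≤ orbPerm.range := by
  have key : ∀ f ∈ genGroup sGens, ∀ hf : f ∈ pointStab, posPerm ⟨f, hf⟩ ∈ orbPerm.range := by
    have hle : genGroup sGens ≤ pointStab := (Subgroup.closure_le _).mpr (by
      rintro _ ⟨g, hg, rfl⟩
      exact (sGens_mem hg).2)
    intro f hf
    induction hf using Subgroup.closure_induction with
    | mem x hx =>
      obtain ⟨g, hg, rfl⟩ := hx
      intro _
      obtain ⟨r, hr⟩ := exists_word hg
      exact ⟨r, hr⟩
    | one => intro h; rw [show (⟨1, h⟩ : pointStab) = 1 from rfl, map_one]; exact one_mem _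
    | mul a b ha hb iha ihb =>
      intro h
      rw [show (⟨a * b, h⟩ : pointStab) = ⟨a, hle ha⟩ * ⟨b, hle hb⟩ from rfl, map_mul]
      exact mul_mem (iha _) (ihb _)
    | inv a ha iha =>
      intro h
      rw [show (⟨a⁻¹, h⟩ : pointStab) = ⟨a, hle ha⟩⁻¹ from rfl, map_inv]
      exact inv_mem (iha _)
  rintro _ ⟨f, rfl⟩
  exact key _ (pointStab_le_genGroup f.2) f.2

theorem finite_ree : Finite ↥ree := Nat.finite_of_card_ne_zero (by rw [card_ree]; norm_num)

theorem card_posPerm_range : Nat.card posPerm.range = 35942400 := by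
  rw [← Nat.card_congr (MonoidHom.ofInjective posPerm_injective).toEquiv, card_first_stab]

theorem card_orbPerm_range : Nat.card orbPerm.range = 35942400 := by
  haveI := finite_ree
  refine le_antisymm ?_ (card_posPerm_range ▸ Subgroup.card_le_of_le posPerm_range_le)
  rw [← card_ree]
  exact Nat.card_le_card_of_surjective _ orbPerm.rangeRestrict_surjective

theorem orbPerm_injective : Function.Injective orbPerm := by
  haveI := finite_ree
  have h : Function.Bijective orbPerm.rangeRestrict :=
    (Nat.bijective_iff_surjective_and_card _).mpr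
      ⟨orbPerm.rangeRestrict_surjective, by rw [card_ree, card_orbPerm_range]⟩
  intro a b e
  exact h.1 (Subtype.ext e)

theorem range_eq : posPerm.range = orbPerm.range :=
  Subgroup.eq_of_le_of_card_ge posPerm_range_le (by rw [card_orbPerm_range, card_posPerm_range])

/-- The stabiliser of the first vector is `²F₄(2)`. -/
noncomputable def titsEquiv : ↥(twistedF4 (ZMod 2) 1) ≃* ↥pointStab :=
  (MonoidHom.ofInjective orbPerm_injective).trans
    ((MulEquiv.subgroupCongr range_eq.symm).trans (MonoidHom.ofInjective posPerm_injective).symm)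

end Cfsg.Agent.Lib.RuRankThree90
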