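import Cfsg.Agent.Lib.RuRankThree90.LineData
import Cfsg.Agent.Lib.RuAut.Simple

/-!
# Words in the stabiliser of the first vector, acting on the 4060 lines
-/

set_option autoImplicit false
set_option maxRecDepth 100000
set_option maxHeartbeats 4000000

namespace Cfsg.Agent.Lib.RuRankThree90

open Cfsg.Spor Cfsg.Agent.Lib.RuAut
open Cfsg.Agent.Lib.Compute (getP forceNat forceNat_eq)

/-- The action of the stabiliser of the first vector on the lines. -/
@[instance_reducible] noncomputable def lineAction : MulAction pointStab (Fin 4060) :=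
  MulAction.compHom _ toLines

attribute [local instance] lineAction

theorem smul_line (f : pointStab) (l : Fin 4060) : f • l = toLines f • l := rfl

theorem smul_val (f : pointStab) (l : Fin 4060) :
    ((f • l : Fin 4060) : ℕ) = img (f : fourRu) (4 * l) / 4 := rfl

theorem eq_of_lines {f g : pointStab} (h : ∀ l : Fin 4060, f • l = g • l) : f = g :=
  toLines_injective (Subtype.ext (Equiv.ext fun l => h l))

/-- The image of a line under a generator. -/
noncomputable def lt (j l : ℕ) : ℕ := getP 12 (LineData.lineTabs.getD j 0) l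

/-- The table of a generator is correct. -/
noncomputable def ltOk (j : ℕ) : Bool :=
  forceNat (LineData.lineTabs.getD j 0) fun T => forceNat (mkTab (genF (17 + j))) fun tab =>
    (List.range 4060).all fun l => forceNat (getP 12 T l) fun m =>
      Nat.blt m 4060 && edgeLine tab (4 * l) (4 * m)

theorem lt_check_0 : ltOk 0 = true := by decide +kernel
theorem lt_check_1 : ltOk 1 = true := by decide +kernel
theorem lt_check_2 : ltOk 2 = true := by decide +kernel
theorem lt_check_3 : ltOk 3 = true := by decide +kernel
theorem lt_check_4 : ltOk 4 = true := by decide +kernel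
theorem lt_check_5 : ltOk 5 = true := by decide +kernel
theorem lt_check_6 : ltOk 6 = true := by decide +kernel

theorem kList_eq : kList = [17, 18, 19, 20, 21, 22, 23] := rfl

/-- A generator. -/
noncomputable def el (j : ℕ) : pointStab :=
  if h : 17 + j ∈ kList then ⟨gen (17 + j), mem_pointStab.mpr (kList_fix h)⟩ else 1

theorem el_spec {j : ℕ} (hj : j < 7) (l : Fin 4060) :
    ((el j • l : Fin 4060) : ℕ) = lt j l ∧ lt j l < 4060 := by
  have h : ltOk j = true := by
    interval_cases j
    exacts [lt_check_0, lt_check_1, lt_check_2, lt_check_3, lt_check_4, lt_check_5, lt_check_6]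
  simp only [ltOk, forceNat_eq, Bool.and_eq_true, List.all_eq_true, List.mem_range, Nat.blt_eq] at h
  obtain ⟨hm, he⟩ := h l l.isLt
  have hk : 17 + j ∈ kList := by rw [kList_eq]; interval_cases j <;> decide
  refine ⟨?_, hm⟩
  rw [el, dif_pos hk, smul_val, edgeLine_sound (by omega) (by omega) he]
  show 4 * getP 12 _ _ / 4 = getP 12 _ _
  omega

/-- All letters are generators. -/
def validW (w : List ℕ) : Bool := w.all fun j => Nat.blt j 7

/-- The element of a word. -/
noncomputable def wEl (w : List ℕ) : pointStab := (w.map el).prod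

/-- The image of a line under a word. -/
noncomputable def lineW (w : List ℕ) (l : ℕ) : ℕ :=
  forceNat l fun l => w.foldr (fun j x => forceNat x fun x => lt j x) l

theorem wEl_spec : ∀ (w : List ℕ), validW w = true → ∀ l : Fin 4060,
    ((wEl w • l : Fin 4060) : ℕ) = lineW w l
  | [], _, l => by simp [wEl, lineW, forceNat_eq]
  | j :: w, h, l => by
    simp only [validW, List.all_cons, Bool.and_eq_true, Nat.blt_eq] at h
    have ih := wEl_spec w (by simp only [validW]; exact h.2) l
    rw [show wEl (j :: w) = el j * wEl w by simp [wEl], mul_smul, (el_spec h.1 _).1, ih]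
    simp [lineW, forceNat_eq]

theorem wEl_append (v w : List ℕ) : wEl (v ++ w) = wEl v * wEl w := by simp [wEl]

/-- Two words act alike on the lines. -/
noncomputable def sameW (v w : List ℕ) : Bool :=
  validW v && validW w && (List.range 4060).all fun l => Nat.beq (lineW v l) (lineW w l)

theorem sameW_sound {v w : List ℕ} (h : sameW v w = true) : wEl v = wEl w := by
  simp only [sameW, Bool.and_eq_true, List.all_eq_true, List.mem_range, Nat.beq_eq] at h
  exact eq_of_lines fun l => Fin.ext (by rw [wEl_spec v h.1.1, wEl_spec w h.1.2, h.2 l l.isLt])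

/-- A word repeated. -/
def repW (w : List ℕ) : ℕ → List ℕ
  | 0 => []
  | n + 1 => repW w n ++ w

theorem wEl_repW (w : List ℕ) : ∀ n, wEl (repW w n) = wEl w ^ n
  | 0 => by simp [repW, wEl]
  | n + 1 => by rw [repW, wEl_append, wEl_repW w n, pow_succ]

/-- The table of a word. -/
noncomputable def tabW (w : List ℕ) : ℕ := Cfsg.Agent.Lib.Compute.packP 12 (lineW w) 4060

theorem getP_tabW {w : List ℕ} (hw : validW w = true) (l : Fin 4060) :
    getP 12 (tabW w) l = ((wEl w • l : Fin 4060) : ℕ) := by
  rw [tabW, Cfsg.Agent.Lib.Compute.getP_packP (fun i hi => ?_) l.isLt, wEl_spec w hw]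
  rw [← wEl_spec w hw ⟨i, hi⟩]
  omega

/-! ### The two orbits -/

theorem aLine_posPerm (f : pointStab) (k : Fin 1755) : aLine (posPerm f k) = f • aLine k := by
  refine Fin.ext ?_
  rw [smul_val]
  show aNode (posImg f k) / 4 = img _ (4 * (aNode k / 4)) / 4
  rw [posImg_spec, ← img_div _ (aTree_facts.2.1 k k.isLt).1]

theorem smul_zero_line (f : pointStab) : f • (0 : Fin 4060) = 0 := toLines_fix f

theorem orbit_aLine (k : Fin 1755) : MulAction.orbit pointStab (aLine k) = Set.range aLine := by
  ext l
  constructor
  · rintro ⟨f, rfl⟩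
    exact ⟨_, aLine_posPerm f k⟩
  · rintro ⟨j, rfl⟩
    obtain ⟨f, hf⟩ := aLine_move k j
    exact ⟨f, hf⟩

/-- The stabiliser of a line. -/
noncomputable def lineStabOf (l : Fin 4060) : Subgroup pointStab :=
  (MulAction.stabilizer lineGroup l).comap toLines

theorem mem_lineStabOf {l : Fin 4060} {f : pointStab} : f ∈ lineStabOf l ↔ f • l = l := Iff.rfl

theorem lineStabOf_eq (l : Fin 4060) : lineStabOf l = MulAction.stabilizer pointStab l := rfl

theorem index_lineStabOf_a (k : Fin 1755) : (lineStabOf (aLine k)).index = 1755 := by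
  rw [lineStabOf_eq, MulAction.index_stabilizer, orbit_aLine, Set.ncard_range_of_injective aLine_inj,
    Nat.card_fin]

/-- A line of the third orbit. -/
def lineOne : Fin 4060 := ⟨1, by norm_num⟩

theorem lineOne_facts : (List.range 1755).all (fun k => !(Nat.beq (aNode k / 4) 1)) = true := by
  decide +kernel

theorem lineOne_not_a : lineOne ∉ Set.range aLine := by
  rintro ⟨k, hk⟩
  have h := List.all_eq_true.mp lineOne_facts k (List.mem_range.mpr k.isLt)
  have e : aNode k / 4 = 1 := congrArg Fin.val hk
  simp [e] at h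

theorem orbit_lineOne : MulAction.orbit pointStab lineOne = (insert (0 : Fin 4060) (Set.range aLine))ᶜ := by
  have hB : ∀ x : Fin 4060, x ∉ Set.range aLine → x ≠ 0 → ∃ y ∈ nodes (bAt 1) (lvlTree 1), y / 4 = x := by
    intro x hxA hx0
    rcases classify_line x.isLt with ⟨k, hk, e⟩ | h | h
    · exact absurd ⟨⟨k, hk⟩, Fin.ext e⟩ hxA
    · exact absurd (Fin.ext h) hx0
    · exact h
  ext l
  constructor
  · rintro ⟨f, rfl⟩ (h | ⟨k, hk⟩)
    · have := (smul_left_cancel_iff f).mp (h.trans (smul_zero_line f).symm)
      exact absurd (congrArg Fin.val this) (by decide)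
    · refine lineOne_not_a ⟨posPerm f⁻¹ k, ?_⟩
      rw [aLine_posPerm, hk]
      exact inv_smul_smul f lineOne
  · intro hl
    simp only [Set.mem_compl_iff, Set.mem_insert_iff, not_or] at hl
    obtain ⟨f, hf⟩ := bLine_move (hB lineOne lineOne_not_a (by decide)) (hB l hl.2 hl.1)
    exact ⟨f, hf⟩

theorem index_lineStabOf_one : (lineStabOf lineOne).index = 2304 := by
  have h0 : (0 : Fin 4060) ∉ Set.range aLine := by
    rintro ⟨k, hk⟩
    have h := aTree_facts.2.1 k k.isLt
    have e : aNode k / 4 = 0 := congrArg Fin.val hk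
    have hz := herm_zero_line (y := 0) (by omega) (vecId 0) h.2
    have h16 := norm_herm (vecId 0)
    rw [hz, ruNorm_vecId 0 (by norm_num)] at h16
    exact absurd h16 (by decide +kernel)
  rw [lineStabOf_eq, MulAction.index_stabilizer, orbit_lineOne, Set.ncard_compl,
    Set.ncard_insert_of_notMem h0, Set.ncard_range_of_injective aLine_inj, Nat.card_fin, Nat.card_fin]

end Cfsg.Agent.Lib.RuRankThree90
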