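import Cfsg.Agent.Lib.RuRankThree90.Data
import Cfsg.Agent.Lib.ReeTwo.Basic
import Cfsg.Agent.Lib.RuAut.Core

/-!
# An action of `²F₄(2)` on 1755 points

The orbit of a vector under the generating words, checked table by table.
-/

set_option autoImplicit false
set_option maxRecDepth 100000
set_option maxHeartbeats 4000000

namespace Cfsg.Agent.Lib.RuRankThree90

open Cfsg.Lie Cfsg.Agent.Lib.Chev Cfsg.Agent.Lib.ReeTwo
open scoped Matrix
open Cfsg.Agent.Lib.Compute (getP forceNat forceNat_eq getP_eq)

theorem getP_lt' (w c i : ℕ) : getP w c i < 2 ^ w := by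
  rw [getP_eq]; exact Nat.mod_lt _ (pow_pos two_pos _)

/-- The vector at a position. -/
noncomputable def vAt (k : ℕ) : ℕ := getP 52 Data.vecs k

/-- The image of a position under a generating word. -/
noncomputable def tImg (i k : ℕ) : ℕ := getP 11 (Data.tabs.getD i 0) k

/-- The table of a generating word is correct. -/
noncomputable def tabOk (i : ℕ) : Bool :=
  forceNat (Data.tabs.getD i 0) fun T => forceNat Data.vecs fun V =>
    (List.range 1755).all fun k => forceNat (getP 11 T k) fun j =>
      Nat.blt j 1755 && Nat.beq (appW (genTab.getD i []) (getP 52 V k)) (getP 52 V j)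

theorem tab_0 : tabOk 0 = true := by decide +kernel
theorem tab_1 : tabOk 1 = true := by decide +kernel
theorem tab_2 : tabOk 2 = true := by decide +kernel
theorem tab_3 : tabOk 3 = true := by decide +kernel
theorem tab_4 : tabOk 4 = true := by decide +kernel
theorem tab_5 : tabOk 5 = true := by decide +kernel
theorem tab_6 : tabOk 6 = true := by decide +kernel
theorem tab_7 : tabOk 7 = true := by decide +kernel
theorem tab_8 : tabOk 8 = true := by decide +kernel

theorem tab_facts {i : ℕ} (hi : i < 9) {k : ℕ} (hk : k < 1755) :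
    tImg i k < 1755 ∧ appW (genTab.getD i []) (vAt k) = vAt (tImg i k) := by
  have h : tabOk i = true := by
    interval_cases i
    exacts [tab_0, tab_1, tab_2, tab_3, tab_4, tab_5, tab_6, tab_7, tab_8]
  simp only [tabOk, forceNat_eq, List.all_eq_true, List.mem_range, Bool.and_eq_true, Nat.blt_eq,
    Nat.beq_eq] at h
  exact h k hk

/-- The vectors increase along the sorted positions. -/
noncomputable def srtOk : Bool :=
  forceNat Data.srt fun S => forceNat Data.vecs fun V =>
    Nat.blt (getP 11 S 0) 1755 && (List.range 1754).all fun j =>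
      Nat.blt (getP 11 S (j + 1)) 1755 && Nat.blt (getP 52 V (getP 11 S j)) (getP 52 V (getP 11 S (j + 1)))

theorem srt_checks : srtOk = true := by decide +kernel

theorem vAt_inj {a b : Fin 1755} (h : vAt a = vAt b) : a = b := by
  have hc := srt_checks
  simp only [srtOk, forceNat_eq, Bool.and_eq_true, List.all_eq_true, List.mem_range, Nat.blt_eq] at hc
  have hlt : ∀ j < 1755, getP 11 Data.srt j < 1755 := fun j hj => by
    rcases j with _ | j
    · exact hc.1
    · exact (hc.2 j (by omega)).1
  have hmono : ∀ i j : ℕ, i < j → j < 1755 →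
      vAt (getP 11 Data.srt i) < vAt (getP 11 Data.srt j) := by
    intro i j hij hj
    induction j with
    | zero => omega
    | succ j ih =>
      have h' := (hc.2 j (by omega)).2
      rcases eq_or_lt_of_le (Nat.le_of_lt_succ hij) with rfl | hlt'
      · exact h'
      · exact lt_trans (ih hlt' (by omega)) h'
  let f : Fin 1755 → Fin 1755 := fun j => ⟨getP 11 Data.srt j, hlt j j.isLt⟩
  have hinj : ∀ i j : Fin 1755, vAt (f i) = vAt (f j) → i = j := fun i j e => by
    rcases lt_trichotomy (i : ℕ) j with h' | h' | h'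
    · exact absurd (hmono _ _ h' j.isLt) (by simp only [f] at e; omega)
    · exact Fin.ext h'
    · exact absurd (hmono _ _ h' i.isLt) (by simp only [f] at e; omega)
  have hf : Function.Surjective f := Finite.injective_iff_surjective.mp
    (fun i j e => hinj i j (congrArg (fun x : Fin 1755 => vAt (x : ℕ)) e))
  obtain ⟨i, rfl⟩ := hf a
  obtain ⟨j, rfl⟩ := hf b
  rw [hinj i j h]

theorem vec_inj {a b : ℕ} (ha : a < 2 ^ 52) (hb : b < 2 ^ 52) (h : vec a = vec b) : a = b := by
  refine Nat.eq_of_testBit_eq fun c => ?_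
  by_cases hc : c < 52
  · obtain ⟨x, rfl⟩ := exists_idxCode (D := chevF4) (c := c) hc
    have e := congrFun h x
    simp only [vec] at e
    revert e
    cases a.testBit (idxCode chevF4 x) <;> cases b.testBit (idxCode chevF4 x) <;> simp
  · rw [Nat.testBit_lt_two_pow (lt_of_lt_of_le ha (Nat.pow_le_pow_right two_pos (by omega))),
      Nat.testBit_lt_two_pow (lt_of_lt_of_le hb (Nat.pow_le_pow_right two_pos (by omega)))]

/-- The point of a position. -/
noncomputable def pt (k : Fin 1755) : chevF4.Idx → ZMod 2 := vec (vAt k)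

theorem pt_inj : Function.Injective pt := fun _ _ h =>
  vAt_inj (vec_inj (getP_lt' ..) (getP_lt' ..) h)

theorem mul_pt (a b : GL chevF4.Idx (ZMod 2)) (v : chevF4.Idx → ZMod 2) :
    (↑(a * b) : Matrix chevF4.Idx chevF4.Idx (ZMod 2)) *ᵥ v =
      (a : Matrix chevF4.Idx chevF4.Idx (ZMod 2)) *ᵥ ((b : Matrix chevF4.Idx chevF4.Idx (ZMod 2)) *ᵥ v) := by
  rw [Units.val_mul, Matrix.mulVec_mulVec]

theorem genTab_length : genTab.length = 9 := by decide +kernel

theorem genTab_getD_mem {i : ℕ} (hi : i < 9) : genTab.getD i [] ∈ genTab := by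
  rw [List.getD_eq_getElem _ _ (by rw [genTab_length]; exact hi)]
  exact List.getElem_mem _

theorem W_gen_pt {i : ℕ} (hi : i < 9) (k : Fin 1755) :
    (W (genTab.getD i []) : Matrix chevF4.Idx chevF4.Idx (ZMod 2)) *ᵥ pt k =
      pt ⟨tImg i k, (tab_facts hi k.isLt).1⟩ := by
  rw [pt, W_mulVec (genTab_mem_words _ (genTab_getD_mem hi))]
  exact congrArg vec (tab_facts hi k.isLt).2

theorem exists_pt_image {g : GL chevF4.Idx (ZMod 2)} (hg : g ∈ ree) :
    ∀ k : Fin 1755, ∃ j, (g : Matrix chevF4.Idx chevF4.Idx (ZMod 2)) *ᵥ pt k = pt j := by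
  refine ree_induction (P := fun g : GL chevF4.Idx (ZMod 2) => ∀ k : Fin 1755, ∃ j,
    (g : Matrix chevF4.Idx chevF4.Idx (ZMod 2)) *ᵥ pt k = pt j)
    (fun k => ⟨k, by rw [Units.val_one, Matrix.one_mulVec]⟩) (fun a b ha hb k => ?_) (fun a ha k => ?_)
    (fun l hl k => ?_) hg
  · obtain ⟨j, hj⟩ := hb k
    obtain ⟨i, hi⟩ := ha j
    exact ⟨i, by rw [mul_pt, hj, hi]⟩
  · choose f hf using ha
    have hinj : Function.Injective f := fun x y e => by
      refine pt_inj ?_
      have := congrArg (fun v => ((a⁻¹ : GL chevF4.Idx (ZMod 2)) : Matrix chevF4.Idx chevF4.Idx (ZMod 2)) *ᵥ v)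
        ((hf x).trans (e ▸ (hf y).symm))
      simp only [← mul_pt, inv_mul_cancel, Units.val_one, Matrix.one_mulVec] at this
      exact this
    obtain ⟨j, hj⟩ := Finite.injective_iff_surjective.mp hinj k
    refine ⟨j, ?_⟩
    rw [← hj, ← hf j, ← mul_pt, inv_mul_cancel, Units.val_one, Matrix.one_mulVec]
  · obtain ⟨n, hn, rfl⟩ := List.mem_iff_getElem.mp hl
    have h9 : n < 9 := by rwa [genTab_length] at hn
    refine ⟨⟨tImg n k, (tab_facts h9 k.isLt).1⟩, ?_⟩
    rw [← List.getD_eq_getElem _ ([] : List ℕ) hn]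
    exact W_gen_pt h9 k

/-- The image of a position. -/
noncomputable def ptImg (g : ree) (k : Fin 1755) : Fin 1755 := (exists_pt_image g.2 k).choose

theorem ptImg_spec (g : ree) (k : Fin 1755) :
    ((g : GL chevF4.Idx (ZMod 2)) : Matrix chevF4.Idx chevF4.Idx (ZMod 2)) *ᵥ pt k = pt (ptImg g k) :=
  (exists_pt_image g.2 k).choose_spec

theorem ptImg_mul (g h : ree) (k : Fin 1755) : ptImg (g * h) k = ptImg g (ptImg h k) :=
  pt_inj (by rw [← ptImg_spec, Subgroup.coe_mul, mul_pt, ptImg_spec, ptImg_spec])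

theorem ptImg_one (k : Fin 1755) : ptImg 1 k = k :=
  pt_inj (by rw [← ptImg_spec, Subgroup.coe_one, Units.val_one, Matrix.one_mulVec])

/-- The action on the orbit. -/
noncomputable def orbPerm : ↥ree →* Equiv.Perm (Fin 1755) where
  toFun g :=
    { toFun := ptImg g
      invFun := ptImg g⁻¹
      left_inv := fun x => by rw [← ptImg_mul, inv_mul_cancel, ptImg_one]
      right_inv := fun x => by rw [← ptImg_mul, mul_inv_cancel, ptImg_one] }
  map_one' := Equiv.ext ptImg_one
  map_mul' g h := Equiv.ext (ptImg_mul g h)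

theorem gen_in_ree {i : ℕ} (hi : i < 9) : W (genTab.getD i []) ∈ ree := by
  interval_cases i
  exacts [by rw [show genTab.getD 0 [] = [] from rfl, W_nil]; exact one_mem _, mem_A, mem_A', mem_T, mem_P,
    mem_B (t := 1) (u := 1) (Or.inl rfl) (by decide +kernel), mem_T', mem_P',
    mem_B (t := 1) (u := 1) (Or.inr rfl) (by decide +kernel)]

/-- A generating element. -/
noncomputable def genEl (i : ℕ) : ↥ree := if hi : i < 9 then ⟨_, gen_in_ree hi⟩ else 1

/-- The image of a position under a word. -/
noncomputable def wordImg (w : List ℕ) (k : ℕ) : ℕ := w.foldr tImg k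

theorem wordImg_spec : ∀ (w : List ℕ), (∀ i ∈ w, i < 9) → ∀ k : Fin 1755,
    ((orbPerm (w.map genEl).prod k : Fin 1755) : ℕ) = wordImg w k
  | [], _, k => by simp [wordImg]
  | i :: w, h, k => by
    have hi := h i List.mem_cons_self
    have ih := wordImg_spec w (fun a ha => h a (List.mem_cons_of_mem _ ha)) k
    rw [List.map_cons, List.prod_cons, map_mul, Equiv.Perm.mul_apply]
    show ((ptImg (genEl i) (orbPerm (w.map genEl).prod k) : Fin 1755) : ℕ) = tImg i (wordImg w k)
    rw [← ih]
    generalize orbPerm (w.map genEl).prod k = j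
    have e : ptImg (genEl i) j = ⟨tImg i j, (tab_facts hi j.isLt).1⟩ := by
      refine pt_inj ?_
      rw [← ptImg_spec, genEl, dif_pos hi]
      exact W_gen_pt hi j
    rw [e]

end Cfsg.Agent.Lib.RuRankThree90
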