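import Cfsg.Agent.Lib.RuRankThree90.Count
import Mathlib.GroupTheory.Sylow

/-!
# The Sylow 5-subgroups of the stabiliser of the first vector

There are at most 14976 of them and the listed conjugates are different, as their fixed lines differ.
-/

set_option autoImplicit false
set_option maxRecDepth 100000
set_option maxHeartbeats 4000000

namespace Cfsg.Agent.Lib.RuRankThree90

open Cfsg.Spor Cfsg.Agent.Lib.RuAut
open Cfsg.Agent.Lib.Compute (getP forceNat forceNat_eq)
open scoped Pointwise

attribute [local instance] lineAction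

/-- The words `a`, `b` times over. -/
def qWord (a b : ℕ) : List ℕ := repW LineData.wQ1 a ++ repW LineData.wQ2 b

/-- Order and commutation of the two elements. -/
noncomputable def q0Ok : Bool :=
  sameW (LineData.wQ1 ++ LineData.wQ2) (LineData.wQ2 ++ LineData.wQ1) &&
    sameW (repW LineData.wQ1 5) [] && sameW (repW LineData.wQ2 5) []

theorem q0_checks : q0Ok = true := by decide +kernel

theorem regular_check : ((List.range 25).all fun r => validW (qWord (r / 5) (r % 5))) = true ∧
    ((List.range 25).map fun r => lineW (qWord (r / 5) (r % 5)) LineData.regPt).Nodup := by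
  constructor <;> decide +kernel

/-- The first generator. -/
noncomputable def qOne : pointStab := wEl LineData.wQ1

/-- The second generator. -/
noncomputable def qTwo : pointStab := wEl LineData.wQ2

theorem wEl_qWord (a b : ℕ) : wEl (qWord a b) = qOne ^ a * qTwo ^ b := by
  rw [qWord, wEl_append, wEl_repW, wEl_repW]; rfl

theorem q_facts : Commute qOne qTwo ∧ qOne ^ 5 = 1 ∧ qTwo ^ 5 = 1 := by
  have h := q0_checks
  simp only [q0Ok, Bool.and_eq_true] at h
  refine ⟨?_, ?_, ?_⟩
  · have := sameW_sound h.1.1
    rwa [wEl_append, wEl_append] at this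
  · have := sameW_sound h.1.2
    rwa [wEl_repW, show wEl [] = 1 by simp [wEl]] at this
  · have := sameW_sound h.2
    rwa [wEl_repW, show wEl [] = 1 by simp [wEl]] at this

theorem pow_mod5 {x : pointStab} (h : x ^ 5 = 1) (n : ℕ) : x ^ n = x ^ (n % 5) := pow_eq_pow_mod n h

/-- The Sylow subgroup. -/
noncomputable def qGroup : Subgroup pointStab where
  carrier := {x | ∃ a b : ℕ, x = qOne ^ a * qTwo ^ b}
  one_mem' := ⟨0, 0, by simp⟩
  mul_mem' := by
    rintro _ _ ⟨a, b, rfl⟩ ⟨c, d, rfl⟩
    refine ⟨a + c, b + d, ?_⟩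
    rw [(q_facts.1.pow_pow c b).symm.mul_mul_mul_comm, pow_add, pow_add]
  inv_mem' := by
    rintro _ ⟨a, b, rfl⟩
    refine ⟨4 * a, 4 * b, inv_eq_of_mul_eq_one_right ?_⟩
    rw [(q_facts.1.pow_pow (4 * a) b).symm.mul_mul_mul_comm, ← pow_add, ← pow_add,
      show a + 4 * a = 5 * a by ring, show b + 4 * b = 5 * b by ring, pow_mul, pow_mul, q_facts.2.1,
      q_facts.2.2, one_pow, one_pow, one_mul]

theorem qOne_mem : qOne ∈ qGroup := ⟨1, 0, by simp⟩

theorem qTwo_mem : qTwo ∈ qGroup := ⟨0, 1, by simp⟩

theorem card_qGroup : Nat.card qGroup = 25 := by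
  have hf : ∀ r : Fin 25, qOne ^ ((r : ℕ) / 5) * qTwo ^ ((r : ℕ) % 5) ∈ qGroup := fun r => ⟨_, _, rfl⟩
  refine (Nat.card_eq_of_bijective (fun r : Fin 25 => (⟨_, hf r⟩ : qGroup)) ⟨fun r s e => ?_, ?_⟩).symm.trans
    (Nat.card_fin 25)
  · have e' : wEl (qWord ((r : ℕ) / 5) ((r : ℕ) % 5)) = wEl (qWord ((s : ℕ) / 5) ((s : ℕ) % 5)) := by
      rw [wEl_qWord, wEl_qWord]; exact congrArg Subtype.val e
    obtain ⟨hv, hnd⟩ := regular_check
    simp only [List.all_eq_true, List.mem_range] at hv
    have hx : LineData.regPt < 4060 := by decide +kernel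
    refine Fin.ext (List.inj_on_of_nodup_map hnd (List.mem_range.mpr r.isLt) (List.mem_range.mpr s.isLt) ?_)
    rw [← wEl_spec _ (hv r r.isLt) ⟨_, hx⟩, e', wEl_spec _ (hv s s.isLt) ⟨_, hx⟩]
  · rintro ⟨_, a, b, rfl⟩
    refine ⟨⟨5 * (a % 5) + b % 5, by omega⟩, Subtype.ext ?_⟩
    show qOne ^ ((5 * (a % 5) + b % 5) / 5) * qTwo ^ ((5 * (a % 5) + b % 5) % 5) = _
    rw [show (5 * (a % 5) + b % 5) / 5 = a % 5 by omega, show (5 * (a % 5) + b % 5) % 5 = b % 5 by omega,
      ← pow_mod5 q_facts.2.1, ← pow_mod5 q_facts.2.2]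

/-! ### The fixed lines -/

/-- The two generators fix exactly the listed lines. -/
noncomputable def fixQOk : Bool :=
  validW LineData.wQ1 && validW LineData.wQ2 &&
    (List.range 4060).all (fun l => (Nat.beq (lineW LineData.wQ1 l) l && Nat.beq (lineW LineData.wQ2 l) l) ==
      LineData.fixQ.elem l) &&
    LineData.fixQ.all (fun l => Nat.blt l 4060)

theorem fixQ_checks : fixQOk = true := by decide +kernel
theorem fixQ_nodup : LineData.fixQ.Nodup := by decide +kernel

/-- The lines fixed by a subgroup. -/
noncomputable def fixSet (Q : Subgroup pointStab) : Finset (Fin 4060) :=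
  haveI := Classical.decPred fun l : Fin 4060 => ∀ q ∈ Q, q • l = l
  Finset.univ.filter fun l => ∀ q ∈ Q, q • l = l

theorem mem_fixSet {Q : Subgroup pointStab} {l : Fin 4060} : l ∈ fixSet Q ↔ ∀ q ∈ Q, q • l = l := by
  simp [fixSet]

theorem mem_fixQ (l : Fin 4060) : l ∈ fixSet qGroup ↔ (l : ℕ) ∈ LineData.fixQ := by
  have h := fixQ_checks
  simp only [fixQOk, Bool.and_eq_true, List.all_eq_true, List.mem_range, beq_iff_eq] at h
  obtain ⟨⟨⟨hv1, hv2⟩, hl⟩, -⟩ := h
  rw [mem_fixSet, ← List.elem_iff, ← hl l l.isLt, Bool.and_eq_true, Nat.beq_eq, Nat.beq_eq,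
    ← wEl_spec _ hv1, ← wEl_spec _ hv2]
  constructor
  · intro h'
    exact ⟨congrArg Fin.val (h' _ qOne_mem), congrArg Fin.val (h' _ qTwo_mem)⟩
  · rintro ⟨h1, h2⟩ _ ⟨a, b, rfl⟩
    have hp : ∀ (q : pointStab), q • l = l → ∀ n : ℕ, q ^ n • l = l := by
      intro q hq n
      induction n with
      | zero => rw [pow_zero, one_smul]
      | succ n ih => rw [pow_succ, mul_smul, hq, ih]
    rw [mul_smul, hp qTwo (Fin.ext h2), hp qOne (Fin.ext h1)]

/-- A conjugate of the Sylow subgroup. -/
noncomputable def qConj (g : pointStab) : Subgroup pointStab := qGroup.map (MulAut.conj g).toMonoidHom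

theorem fixSet_qConj (g : pointStab) : fixSet (qConj g) = (fixSet qGroup).image (g • ·) := by
  ext l
  simp only [Finset.mem_image, mem_fixSet]
  constructor
  · intro h
    refine ⟨g⁻¹ • l, fun q hq => ?_, smul_inv_smul g l⟩
    have e : (g * q * g⁻¹) • l = l := h _ ⟨q, hq, rfl⟩
    rwa [mul_smul, mul_smul, smul_eq_iff_eq_inv_smul] at e
  · rintro ⟨m, hm, rfl⟩ _ ⟨q, hq, rfl⟩
    show (g * q * g⁻¹) • g • m = g • m
    rw [mul_smul, mul_smul, inv_smul_smul, hm q hq]

/-- The invariant of a subgroup. -/
noncomputable def keyOf (Q : Subgroup pointStab) : ℕ := ∑ l ∈ fixSet Q, (l : ℕ) * (l : ℕ) * (l : ℕ)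

theorem keyOf_qConj (g : pointStab) (f : ℕ → ℕ)
    (hf : ∀ l : Fin 4060, f l = ((g • l : Fin 4060) : ℕ)) :
    keyOf (qConj g) = (LineData.fixQ.map fun x => f x * f x * f x).sum := by
  rw [keyOf, fixSet_qConj, Finset.sum_image (fun a _ b _ e => smul_left_cancel g e),
    ← List.sum_toFinset _ fixQ_nodup]
  refine Finset.sum_bij (fun l _ => (l : ℕ)) (fun l hl => List.mem_toFinset.mpr ((mem_fixQ l).mp hl))
    (fun a _ b _ e => Fin.ext e) (fun x hx => ?_) (fun l _ => by rw [hf])
  have h := fixQ_checks
  simp only [fixQOk, Bool.and_eq_true, List.all_eq_true, Nat.blt_eq] at h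
  exact ⟨⟨x, h.2 x (List.mem_toFinset.mp hx)⟩, (mem_fixQ _).mpr (List.mem_toFinset.mp hx), rfl⟩

/-! ### The listed conjugates -/

/-- An entry. -/
noncomputable def entry (e : ℕ) : ℕ := getP 54 LineData.conjEntries e

/-- The case of an entry. -/
noncomputable def eCase (e : ℕ) : ℕ := entry e / 256 % 128

/-- The powers of the two normalising elements of an entry. -/
noncomputable def ePowC (e : ℕ) : ℕ := entry e / 16 % 16

noncomputable def ePowP (e : ℕ) : ℕ := entry e % 16

/-- Iterated application of a table. -/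
noncomputable def iterT (T : ℕ) : ℕ → ℕ → ℕ
  | 0, x => x
  | m + 1, x => forceNat (iterT T m x) fun y => getP 12 T y

theorem iterT_spec {w : List ℕ} (hw : validW w = true) : ∀ (m : ℕ) (l : Fin 4060),
    iterT (tabW w) m l = (((wEl w) ^ m • l : Fin 4060) : ℕ)
  | 0, l => by simp [iterT]
  | m + 1, l => by rw [iterT, forceNat_eq, iterT_spec hw m l, getP_tabW hw, pow_succ', mul_smul]

/-- The element of an entry. -/
noncomputable def gEntry (e : ℕ) : pointStab :=
  wEl LineData.wC ^ ePowC e * wEl LineData.wP ^ ePowP e * wEl (LineData.cases.getD (eCase e) [])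

/-- The keys of a range of entries are correct and increasing. -/
noncomputable def entriesOk (a n : ℕ) : Bool :=
  forceNat LineData.conjEntries fun C => forceNat (tabW LineData.wC) fun TC =>
    forceNat (tabW LineData.wP) fun TP => (List.range' a n).all fun e =>
      forceNat (getP 54 C e) fun E =>
        forceNat (E / 256 % 128) fun i => forceNat (E / 16 % 16) fun m => forceNat (E % 16) fun k =>
          let w := LineData.cases.getD i []
          Nat.blt i 102 && validW w &&
            Nat.beq ((LineData.fixQ.map fun x =>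
              forceNat (iterT TC m (iterT TP k (lineW w x))) fun y => y * y * y).sum) (E / 32768) &&
            (Nat.beq e 0 || Nat.blt (getP 54 C (e - 1) / 32768) (E / 32768))

theorem entries_0 : entriesOk 0 3744 = true := by decide +kernel
theorem entries_1 : entriesOk 3744 3744 = true := by decide +kernel
theorem entries_2 : entriesOk 7488 3744 = true := by decide +kernel
theorem entries_3 : entriesOk 11232 3744 = true := by decide +kernel

theorem word_PC : validW LineData.wP = true ∧ validW LineData.wC = true := by decide +kernel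

theorem entry_facts {e : ℕ} (he : e < 14976) : eCase e < 102 ∧
    keyOf (qConj (gEntry e)) = entry e / 32768 ∧ (0 < e → entry (e - 1) / 32768 < entry e / 32768) := by
  have h : ∃ a n, entriesOk a n = true ∧ a ≤ e ∧ e < a + n := by
    rcases Nat.lt_or_ge e 3744 with h1 | h1
    · exact ⟨_, _, entries_0, by omega, by omega⟩
    rcases Nat.lt_or_ge e 7488 with h2 | h2
    · exact ⟨_, _, entries_1, by omega, by omega⟩
    rcases Nat.lt_or_ge e 11232 with h3 | h3
    · exact ⟨_, _, entries_2, by omega, by omega⟩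
    · exact ⟨_, _, entries_3, by omega, by omega⟩
  obtain ⟨a, n, hc, h1, h2⟩ := h
  simp only [entriesOk, forceNat_eq, List.all_eq_true, Bool.and_eq_true, Bool.or_eq_true, Nat.blt_eq,
    Nat.beq_eq] at hc
  obtain ⟨⟨⟨hi, hv⟩, hk⟩, hinc⟩ := hc e (List.mem_range'_1.mpr ⟨h1, h2⟩)
  refine ⟨hi, ?_, fun hpos => ?_⟩
  · rw [keyOf_qConj _ (fun x => iterT (tabW LineData.wC) (ePowC e)
      (iterT (tabW LineData.wP) (ePowP e) (lineW (LineData.cases.getD (eCase e) []) x))) fun l => ?_]
    · exact hk
    · show iterT _ _ (iterT _ _ (lineW _ _)) = _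
      have hv' : validW (LineData.cases.getD (eCase e) []) = true := hv
      rw [← wEl_spec _ hv' l, iterT_spec word_PC.1, iterT_spec word_PC.2, gEntry, mul_smul, mul_smul]
  · rcases hinc with h0 | h0
    · omega
    · exact h0

/-- The normalising generators act as stated. -/
noncomputable def normOk : Bool :=
  Nat.beq LineData.relNQ.length LineData.wNQ.length &&
    (List.range LineData.wNQ.length).all fun i =>
      let y := LineData.wNQ.getD i []
      let r := LineData.relNQ.getD i ((0, 0), (0, 0))
      sameW (y ++ LineData.wQ1) (qWord r.1.1 r.1.2 ++ y) && sameW (y ++ LineData.wQ2) (qWord r.2.1 r.2.2 ++ y)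

theorem norm_checks : normOk = true := by decide +kernel

theorem norm_count : countOk LineData.wNQ 2400 LineData.normTree LineData.normTreeSrt = true := by
  decide +kernel

theorem factorization_five : (Nat.card pointStab).factorization 5 = 2 := by
  rw [show Nat.card pointStab = 5 ^ 2 * 1437696 from card_first_stab, Nat.factorization_mul (by norm_num) (by norm_num),
    Nat.Prime.factorization_pow (by norm_num), Finsupp.add_apply, Finsupp.single_eq_same,
    Nat.factorization_eq_zero_of_not_dvd (by norm_num)]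

theorem finite_pointStab' : Finite pointStab := by
  haveI := finite_fourRu
  infer_instance

/-- Every subgroup of order 25 is one of the listed conjugates. -/
theorem exists_entry {Q : Subgroup pointStab} (hQ : Nat.card Q = 25) :
    ∃ e < 14976, Q = qConj (gEntry e) := by
  classical
  haveI := finite_pointStab'
  haveI : Fact (Nat.Prime 5) := ⟨by norm_num⟩
  have hc : ∀ g, Nat.card (qConj g) = 5 ^ (Nat.card pointStab).factorization 5 := fun g => by
    rw [factorization_five, qConj, Subgroup.card_map_of_injective (MulAut.conj g).injective, card_qGroup]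
    norm_num
  let F : Fin 14976 → Sylow 5 pointStab := fun e => Sylow.ofCard (qConj (gEntry e)) (hc _)
  have hmono : ∀ i j : ℕ, i < j → j < 14976 → entry i / 32768 < entry j / 32768 := by
    intro i j hij hj
    induction j with
    | zero => omega
    | succ j ih =>
      have h' := (entry_facts (e := j + 1) hj).2.2 (by omega)
      rw [Nat.add_sub_cancel] at h'
      rcases eq_or_lt_of_le (Nat.le_of_lt_succ hij) with rfl | hlt'
      · exact h'
      · exact lt_trans (ih hlt' (by omega)) h'
  have hinj : Function.Injective F := fun a b e => by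
    have e' : qConj (gEntry a) = qConj (gEntry b) := congrArg (fun P : Sylow 5 pointStab => (P : Subgroup pointStab)) e
    have ek : entry a / 32768 = entry b / 32768 := by
      rw [← (entry_facts a.isLt).2.1, ← (entry_facts b.isLt).2.1, e']
    rcases lt_trichotomy (a : ℕ) b with h' | h' | h'
    · exact absurd (hmono _ _ h' b.isLt) (by omega)
    · exact Fin.ext h'
    · exact absurd (hmono _ _ h' a.isLt) (by omega)
  let P0 : Sylow 5 pointStab := Sylow.ofCard qGroup (by rw [factorization_five, card_qGroup]; norm_num)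
  have hnorm : 2400 ≤ Nat.card (Subgroup.normalizer (qGroup : Set pointStab)) := by
    refine le_card_of_count norm_count (by norm_num) fun w hw => ?_
    have h := norm_checks
    simp only [normOk, Bool.and_eq_true, List.all_eq_true, List.mem_range] at h
    obtain ⟨i, hi, rfl⟩ := List.mem_iff_getElem.mp hw
    obtain ⟨e1, e2⟩ := h.2 i hi
    rw [List.getD_eq_getElem _ _ hi] at e1 e2
    have e1' := sameW_sound e1
    have e2' := sameW_sound e2
    rw [wEl_append, wEl_append, wEl_qWord] at e1' e2'
    have hle : qConj (wEl LineData.wNQ[i]) ≤ qGroup := by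
      rintro _ ⟨_, ⟨a, b, rfl⟩, rfl⟩
      show wEl LineData.wNQ[i] * (qOne ^ a * qTwo ^ b) * (wEl LineData.wNQ[i])⁻¹ ∈ qGroup
      have k1 : wEl LineData.wNQ[i] * qOne * (wEl LineData.wNQ[i])⁻¹ ∈ qGroup := by
        rw [show qOne = wEl LineData.wQ1 from rfl, e1', mul_inv_cancel_right]; exact ⟨_, _, rfl⟩
      have k2 : wEl LineData.wNQ[i] * qTwo * (wEl LineData.wNQ[i])⁻¹ ∈ qGroup := by
        rw [show qTwo = wEl LineData.wQ2 from rfl, e2', mul_inv_cancel_right]; exact ⟨_, _, rfl⟩
      have := mul_mem (pow_mem k1 a) (pow_mem k2 b)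
      rw [conj_pow, conj_pow] at this
      simpa [mul_assoc] using this
    have heq : qConj (wEl LineData.wNQ[i]) = qGroup := Subgroup.eq_of_le_of_card_ge hle
      (le_of_eq (by rw [qConj, Subgroup.card_map_of_injective (MulAut.conj _).injective]))
    rw [Subgroup.mem_normalizer_iff]
    intro x
    constructor
    · exact fun hx => heq ▸ ⟨x, hx, rfl⟩
    · intro hx
      rw [← heq] at hx
      obtain ⟨y, hy, e⟩ := hx
      have e' : wEl LineData.wNQ[i] * y * (wEl LineData.wNQ[i])⁻¹ =
          wEl LineData.wNQ[i] * x * (wEl LineData.wNQ[i])⁻¹ := e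
      exact (mul_left_cancel (mul_right_cancel e')) ▸ hy
  have hcard : Nat.card (Sylow 5 pointStab) ≤ 14976 := by
    rw [P0.card_eq_index_normalizer]
    have := (Subgroup.normalizer (qGroup : Set pointStab)).card_mul_index
    rw [show Nat.card pointStab = 35942400 from card_first_stab] at this
    show (Subgroup.normalizer (qGroup : Set pointStab)).index ≤ 14976
    nlinarith
  have hbij : Function.Bijective F := hinj.bijective_of_nat_card_le (hcard.trans_eq (Nat.card_fin _).symm)
  obtain ⟨e, he⟩ := hbij.2 (Sylow.ofCard Q (by rw [factorization_five, hQ]; norm_num))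
  exact ⟨e, e.isLt, (congrArg (fun P : Sylow 5 pointStab => (P : Subgroup pointStab)) he).symm⟩

end Cfsg.Agent.Lib.RuRankThree90
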